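import Cfsg.Agent.Lib.Suz.Tori
import Cfsg.Prelude.Def_Transfer

/-! Partition of the Suzuki group, CN property, exceptional tori, TI elementary abelian subgroups. -/

set_option autoImplicit false

namespace Cfsg.Agent.Lib.Suz

open Matrix MulAction
open scoped Pointwise

variable {F : Type*} [Field F] [Fintype F] [CharP F 2] {m : ℕ} (c : Ctx F m)

include c

theorem tori : ∀ k ∈ ({2 ^ (2 * m + 1) + 2 ^ (m + 1) + 1, 2 ^ (2 * m + 1) - 2 ^ (m + 1) + 1} : Set ℕ),
    ∃ U : Subgroup ↥(Cfsg.Sz F m), IsCyclic U ∧ Nat.card U = k ∧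
      (∀ u ∈ U, u ≠ 1 → Subgroup.centralizer {u} = U) ∧
      Nat.card (Subgroup.normalizer (U : Set ↥(Cfsg.Sz F m))) = 4 * k := by
  intro k hk
  obtain ⟨x, y, hx, hy, -, hNx, hNy, hcx, hcy⟩ := exists_tori c
  rcases hk with rfl | hk
  · exact ⟨cz x, free_cz_cyclic c hx, hcx, fun u hu h1 => cz_eq_of_mem c hx hu h1, by rw [hNx, hcx]⟩
  · rw [Set.mem_singleton_iff] at hk; subst hk
    exact ⟨cz y, free_cz_cyclic c hy, hcy, fun u hu h1 => cz_eq_of_mem c hy hu h1, by rw [hNy, hcy]⟩

theorem card_cz_free {g : ↥(Cfsg.Sz F m)} (hg : IsFree g) :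
    Nat.card (cz g) ∈ ({2 ^ (2 * m + 1) + 2 ^ (m + 1) + 1, 2 ^ (2 * m + 1) - 2 ^ (m + 1) + 1} : Set ℕ) := by
  obtain ⟨x, y, hx, hy, hcover, -, -, hcx, hcy⟩ := exists_tori c
  rcases hcover g hg with ⟨-, k, hk⟩ | ⟨-, k, hk⟩
  · left; rw [hk, Subgroup.card_map_of_injective (MulAut.conj k).injective, hcx]
  · right; rw [Set.mem_singleton_iff, hk, Subgroup.card_map_of_injective (MulAut.conj k).injective, hcy]

theorem card_T : Nat.card (tHom c).range = Fintype.card F - 1 := by
  rw [← Nat.card_congr (MonoidHom.ofInjective (tHom_injective c)).toEquiv, Nat.card_units,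
    Nat.card_eq_fintype_card]

theorem two_fix_iff (g : ↥(Cfsg.Sz F m)) (k : ↥(Cfsg.Sz F m)) :
    g ∈ (tHom c).range.map (MulAut.conj k).toMonoidHom ↔
      g • k • pt (F := F) m none = k • pt m none ∧
        g • k • pt (F := F) m (some (0, 0)) = k • pt m (some (0, 0)) := by
  rw [Subgroup.mem_map_equiv, MulAut.conj_symm_apply, MonoidHom.mem_range]
  constructor
  · rintro ⟨h, hh⟩
    have : g = k * tHom c h * k⁻¹ := by rw [hh]; group
    subst this
    constructor
    · rw [mul_smul, mul_smul, inv_smul_smul, tHom_smul_inf]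
    · rw [mul_smul, mul_smul, inv_smul_smul, tHom_smul_zero]
  · rintro ⟨h1, h2⟩
    obtain ⟨h, hh⟩ := (two_point_iff c (k⁻¹ * g * k)).1
      ⟨by rw [mul_smul, mul_smul, h1, inv_smul_smul], by rw [mul_smul, mul_smul, h2, inv_smul_smul]⟩
    exact ⟨h, hh.symm⟩

theorem tHom_fix {h : Fˣ} (h1 : h ≠ 1) {o : Om F m} (ho : tHom c h • o = o) :
    o = pt m none ∨ o = pt m (some (0, 0)) := by
  by_contra hne
  push_neg at hne
  exact h1 (tHom_injective c ((eq_one_of_fix3 c (x := pt m none) (y := pt m (some (0, 0))) (z := o)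
    (fun e => by simpa using (pt_bij m).1 e) hne.2.symm hne.1.symm (tHom_smul_inf c h)
    (tHom_smul_zero c h) ho).trans (map_one _).symm))

theorem cz_uG {u : ↥(Cfsg.Sz F m)} (hu : u ∈ uSub c) (h1 : u ≠ 1) : cz u ≤ uSub c := by
  obtain ⟨a, b, rfl⟩ := hu
  have hab : ¬ (a = 0 ∧ b = 0) := fun e => h1 (by rw [e.1, e.2, uG_zero])
  intro x hx
  rw [Subgroup.mem_centralizer_singleton_iff] at hx
  have hfix : uG c a b • (x • pt (F := F) m none) = x • pt m none := by
    rw [← mul_smul, ← hx, mul_smul, uG_smul_inf]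
  have hxinf : x • pt (F := F) m none = pt m none := by
    by_contra hne
    exact hab (uG_fix c hfix hne)
  rcases fix_inf_cases c hxinf with h | ⟨o, ho, hxo⟩
  · exact h
  by_cases hx1 : x = 1
  · subst hx1; exact one_mem _
  exfalso
  have h2 : x • (uG c a b • o) = uG c a b • o := by rw [← mul_smul, hx, mul_smul, hxo]
  have h3 : uG c a b • o ≠ pt m none := fun e =>
      ho (MulAction.injective (uG c a b) (e.trans (uG_smul_inf c a b).symm))
  have h4 : uG c a b • o ≠ o := fun e => hab (uG_fix c e ho)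
  exact hx1 (eq_one_of_fix3 c ho.symm (Ne.symm h4) h3.symm hxinf hxo h2)

theorem cz_torus {h : Fˣ} (h1 : h ≠ 1) : cz (tHom c h) ≤ (tHom c).range := by
  intro x hx
  rw [Subgroup.mem_centralizer_singleton_iff] at hx
  have key : ∀ o : Om F m, tHom c h • o = o → tHom c h • (x • o) = x • o := fun o ho => by
    rw [← mul_smul, ← hx, mul_smul, ho]
  rcases tHom_fix c h1 (key _ (tHom_smul_inf c h)) with ha | ha
  · rcases tHom_fix c h1 (key _ (tHom_smul_zero c h)) with hb | hb
    · exact absurd ((pt_bij m).1 (MulAction.injective x (ha.trans hb.symm))) (by simp)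
    · obtain ⟨h', hh⟩ := (two_point_iff c x).1 ⟨ha, hb⟩
      exact ⟨h', hh.symm⟩
  · exfalso
    rcases tHom_fix c h1 (key _ (tHom_smul_zero c h)) with hb | hb
    · obtain ⟨h', hh⟩ := (two_point_iff c (wG c * x)).1
        ⟨by rw [mul_smul, ha, wG_smul_zero], by rw [mul_smul, hb, wG_smul_inf]⟩
      have hz : x = wG c * tHom c h' := by rw [← hh, ← mul_assoc, wG_mul_self, one_mul]
      have e' : tHom c h⁻¹ * tHom c h' = tHom c h * tHom c h' := by
        rw [← wG_conj_tHom, show wG c * tHom c h * wG c * tHom c h' = wG c * (tHom c h * x) by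
          rw [hz]; group, ← hx, hz, ← mul_assoc, ← mul_assoc, wG_mul_self, one_mul, ← map_mul, ← map_mul,
          mul_comm]
      apply h1
      refine Units.ext (sq_eq_one' ?_)
      have := congrArg Units.val (inv_eq_iff_mul_eq_one.1 (tHom_injective c (mul_right_cancel e')))
      rw [sq]; simpa using this
    · exact absurd ((pt_bij m).1 (MulAction.injective x (ha.trans hb.symm))) (by simp)

theorem cn : Cfsg.IsCNGroup ↥(Cfsg.Sz F m) := by
  haveI : Fact (Nat.Prime 2) := ⟨Nat.prime_two⟩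
  intro g hg
  have habel : ∀ H : Subgroup ↥(Cfsg.Sz F m), (∀ a ∈ H, ∀ b ∈ H, a * b = b * a) → Group.IsNilpotent H := by
    intro H hH
    letI : CommGroup H := { mul_comm := fun a b => Subtype.ext (hH a a.2 b b.2) }
    exact CommGroup.isNilpotent
  by_cases hfree : IsFree g
  · exact habel _ fun a ha b hb => free_cz_comm c hfree ha hb
  rcases not_free_cases c hfree with ⟨k, u, hu, rfl⟩ | ⟨k, h, rfl⟩
  · have hu1 : u ≠ 1 := fun e => hg (by rw [e, mul_one, mul_inv_cancel])
    have hp : IsPGroup 2 (uSub c) := IsPGroup.of_card (n := 2 * (2 * m + 1)) (by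
      rw [card_uSub c, c.hF, ← pow_mul]; congr 1; ring)
    have hp' : IsPGroup 2 (cz (k * u * k⁻¹)) := by
      rw [cz_conj]; exact (hp.to_le (cz_uG c hu hu1)).map _
    exact hp'.isNilpotent
  · have h1 : h ≠ 1 := fun e => hg (by rw [e, map_one, mul_one, mul_inv_cancel])
    refine habel _ ?_
    show ∀ a ∈ cz (k * tHom c h * k⁻¹), ∀ b ∈ cz (k * tHom c h * k⁻¹), a * b = b * a
    rw [cz_conj]
    rintro _ ⟨a, ha, rfl⟩ _ ⟨b, hb, rfl⟩
    obtain ⟨ha', rfl⟩ := cz_torus c h1 ha
    obtain ⟨hb', rfl⟩ := cz_torus c h1 hb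
    rw [← map_mul, ← map_mul, ← map_mul, ← map_mul, mul_comm]

theorem orderOf_dvd_cases {U : Subgroup ↥(Cfsg.Sz F m)} [IsCyclic U] {n : ℕ} (hn : Nat.card U = n) (h1 : 1 < n) :
    ∃ z : ↥(Cfsg.Sz F m), orderOf z = n ∧ U = Subgroup.zpowers z := by
  obtain ⟨z, hz⟩ := IsCyclic.exists_generator (α := U)
  refine ⟨z, ?_, ?_⟩
  · rw [Subgroup.orderOf_coe, ← hn, ← orderOf_eq_card_of_forall_mem_zpowers hz]
  · ext t
    constructor
    · intro ht
      obtain ⟨i, hi⟩ := Subgroup.mem_zpowers_iff.1 (hz ⟨t, ht⟩)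
      exact ⟨i, by simpa using congrArg Subtype.val hi⟩
    · rintro ⟨i, rfl⟩; exact zpow_mem z.2 i

theorem cyclic_sub_cases {U : Subgroup ↥(Cfsg.Sz F m)} (hU : IsCyclic U)
    (hn : Nat.card U ∈ ({2 ^ (2 * m + 1) - 1, 2 ^ (2 * m + 1) + 2 ^ (m + 1) + 1,
      2 ^ (2 * m + 1) - 2 ^ (m + 1) + 1} : Set ℕ)) :
    (∃ k, U = (tHom c).range.map (MulAut.conj k).toMonoidHom) ∨ ∃ z, IsFree z ∧ U = cz z := by
  simp only [Set.mem_insert_iff, Set.mem_singleton_iff] at hn
  set q := 2 ^ (2 * m + 1) with hq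
  have hF : Fintype.card F = q := c.hF
  have h8 : 8 ≤ q := hF ▸ c.eight_le
  have hr : 2 * 2 ^ (m + 1) ≤ q := by
    rw [hq, ← pow_succ']; exact Nat.pow_le_pow_right two_pos (by have := c.hm; omega)
  have hge : 3 ≤ Nat.card U := by rcases hn with h | h | h <;> omega
  obtain ⟨z, hz, hzU⟩ := orderOf_dvd_cases c (U := U) rfl (by omega)
  have hodd : ¬ Nat.card U ∣ 4 := by
    have h2 : 2 ∣ q := dvd_pow_self 2 (by omega)
    have h2' : 2 ∣ 2 ^ (m + 1) := dvd_pow_self 2 (by omega)
    intro hd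
    have hle := Nat.le_of_dvd (by norm_num) hd
    have hodd' : Nat.card U % 2 = 1 := by rcases hn with h | h | h <;> omega
    have h3 : Nat.card U = 3 := by omega
    rw [h3] at hd
    norm_num at hd
  by_cases hfree : IsFree z
  · refine Or.inr ⟨z, hfree, ?_⟩
    have hle : U ≤ cz z := by
      rw [hzU, Subgroup.zpowers_le]; exact mem_cz_self z
    refine Subgroup.eq_of_le_of_card_ge hle ?_
    have hdvd := Subgroup.card_dvd_of_le hle
    obtain ⟨hc2, -⟩ := card_cz_dvd c hfree
    have hcz := card_cz_free c hfree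
    simp only [Set.mem_insert_iff, Set.mem_singleton_iff, ← hq] at hcz
    rcases hn with h | h | h
    · exfalso
      rw [h] at hdvd
      obtain ⟨p, hp, hpd⟩ := Nat.exists_prime_and_dvd (show q - 1 ≠ 1 by omega)
      exact (prime_facts c hp ((hpd.trans hdvd).trans hc2)).2.1 (hF.symm ▸ hpd)
    · rcases hcz with e | e
      · omega
      · exfalso
        rw [h, e] at hdvd
        have := Nat.le_of_dvd (by omega) hdvd
        have : 0 < 2 ^ (m + 1) := by positivity
        omega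
    · rcases hcz with e | e
      · exfalso
        rw [h, e] at hdvd
        have h3 : q - 2 ^ (m + 1) + 1 ∣ 2 ^ (m + 2) := by
          have := Nat.dvd_sub hdvd dvd_rfl
          rwa [show q + 2 ^ (m + 1) + 1 - (q - 2 ^ (m + 1) + 1) = 2 ^ (m + 2) by
            rw [pow_succ 2 (m + 1)]; omega] at this
        obtain ⟨i, -, hi⟩ := (Nat.dvd_prime_pow Nat.prime_two).1 h3
        rcases i with _ | i
        · rw [pow_zero] at hi
          omega
        · have h2q : 2 ∣ q := dvd_pow_self 2 (by omega)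
          have h2r : 2 ∣ 2 ^ (m + 1) := dvd_pow_self 2 (by omega)
          have h2d : 2 ∣ q - 2 ^ (m + 1) + 1 := hi ▸ dvd_pow_self 2 (by omega)
          omega
      · omega
  · refine Or.inl ?_
    rcases not_free_cases c hfree with ⟨k, u, hu, e⟩ | ⟨k, h, e⟩
    · exfalso
      apply hodd
      rw [← hz]
      apply orderOf_dvd_of_pow_eq_one
      rw [e, conj_pow, four_of_fix_inf c hu, mul_one, mul_inv_cancel]
    · have hle : U ≤ (tHom c).range.map (MulAut.conj k).toMonoidHom := by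
        rw [hzU, Subgroup.zpowers_le]; exact ⟨_, ⟨h, rfl⟩, by rw [e]; rfl⟩
      have hcardT : Nat.card ((tHom c).range.map (MulAut.conj k).toMonoidHom) = q - 1 := by
        rw [Subgroup.card_map_of_injective (MulAut.conj k).injective, card_T, hF]
      refine ⟨k, Subgroup.eq_of_le_of_card_ge hle ?_⟩
      rw [hcardT]
      obtain ⟨x, y, hx, hy, -, -, -, hcx, hcy⟩ := exists_tori c
      rcases hn with h' | h' | h'
      · omega
      all_goals
        exfalso
        have hdvd := Subgroup.card_dvd_of_le hle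
        rw [hcardT] at hdvd
        obtain ⟨p, hp, hpd⟩ := Nat.exists_prime_and_dvd (show Nat.card U ≠ 1 by omega)
        have hq1 : p ∣ Fintype.card F - 1 := hF.symm ▸ hpd.trans hdvd
        first
        | exact (prime_facts c hp (hpd.trans ((h'.trans hcx.symm) ▸ (card_cz_dvd c hx).1))).2.1 hq1
        | exact (prime_facts c hp (hpd.trans ((h'.trans hcy.symm) ▸ (card_cz_dvd c hy).1))).2.1 hq1

theorem partition (g : ↥(Cfsg.Sz F m)) (hg : g ≠ 1) :
    ∃! U : Subgroup ↥(Cfsg.Sz F m), ((∃ P : Sylow 2 ↥(Cfsg.Sz F m), U = (P : Subgroup ↥(Cfsg.Sz F m))) ∨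
      (IsCyclic ↥U ∧ Nat.card ↥U ∈ ({2 ^ (2 * m + 1) - 1, 2 ^ (2 * m + 1) + 2 ^ (m + 1) + 1,
        2 ^ (2 * m + 1) - 2 ^ (m + 1) + 1} : Set ℕ))) ∧ g ∈ U := by
  haveI : Fact (Nat.Prime 2) := ⟨Nat.prime_two⟩
  -- the three kinds of members containing `g`
  have hsyl : ∀ P : Sylow 2 ↥(Cfsg.Sz F m), g ∈ (P : Subgroup ↥(Cfsg.Sz F m)) →
      ∃ k : ↥(Cfsg.Sz F m), (P : Subgroup ↥(Cfsg.Sz F m)) = (uSub c).map (MulAut.conj k).toMonoidHom ∧
        g • k • pt (F := F) m none = k • pt m none ∧ ∀ o, g • o = o → o = k • pt (F := F) m none := by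
    intro P hP
    obtain ⟨k, hk⟩ := sylow_conj c P
    rw [hk] at hP
    obtain ⟨u, ⟨a, b, rfl⟩, rfl⟩ := hP
    refine ⟨k, hk, ?_, fun o ho => ?_⟩
    · change (k * uG c a b * k⁻¹) • k • pt (F := F) m none = _
      rw [mul_smul, mul_smul, inv_smul_smul, uG_smul_inf]
    · change (k * uG c a b * k⁻¹) • o = o at ho
      rw [mul_smul, mul_smul, smul_eq_iff_eq_inv_smul] at ho
      by_contra hne
      have hab := uG_fix c ho fun e => hne (by rw [← e, smul_inv_smul])
      exact hg (by rw [hab.1, hab.2, uG_zero, map_one])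
  have htor : ∀ U : Subgroup ↥(Cfsg.Sz F m), IsCyclic U → Nat.card U ∈ ({2 ^ (2 * m + 1) - 1,
      2 ^ (2 * m + 1) + 2 ^ (m + 1) + 1, 2 ^ (2 * m + 1) - 2 ^ (m + 1) + 1} : Set ℕ) → g ∈ U →
      (∃ k, U = (tHom c).range.map (MulAut.conj k).toMonoidHom ∧ g • k • pt (F := F) m none = k • pt m none ∧
          g • k • pt (F := F) m (some (0, 0)) = k • pt m (some (0, 0))) ∨ (IsFree g ∧ U = cz g) := by
    intro U hU hn hgU
    rcases cyclic_sub_cases c hU hn with ⟨k, hk⟩ | ⟨z, hz, hk⟩
    · exact Or.inl ⟨k, hk, (two_fix_iff c g k).1 (hk ▸ hgU)⟩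
    · rw [hk] at hgU
      exact Or.inr ⟨free_of_mem_cz c hz hgU hg, hk.trans (cz_eq_of_mem c hz hgU hg).symm⟩
  have huniq : ∀ U U' : Subgroup ↥(Cfsg.Sz F m),
      (((∃ P : Sylow 2 ↥(Cfsg.Sz F m), U = (P : Subgroup ↥(Cfsg.Sz F m))) ∨
        (IsCyclic ↥U ∧ Nat.card ↥U ∈ ({2 ^ (2 * m + 1) - 1, 2 ^ (2 * m + 1) + 2 ^ (m + 1) + 1,
          2 ^ (2 * m + 1) - 2 ^ (m + 1) + 1} : Set ℕ))) ∧ g ∈ U) →
      (((∃ P : Sylow 2 ↥(Cfsg.Sz F m), U' = (P : Subgroup ↥(Cfsg.Sz F m))) ∨
        (IsCyclic ↥U' ∧ Nat.card ↥U' ∈ ({2 ^ (2 * m + 1) - 1, 2 ^ (2 * m + 1) + 2 ^ (m + 1) + 1,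
          2 ^ (2 * m + 1) - 2 ^ (m + 1) + 1} : Set ℕ))) ∧ g ∈ U') → U = U' := by
    have hne : ∀ k : ↥(Cfsg.Sz F m), k • pt (F := F) m none ≠ k • pt m (some (0, 0)) := fun k e => by
      simpa using (pt_bij m).1 (MulAction.injective k e)
    have hTeq : ∀ k k' : ↥(Cfsg.Sz F m),
        (g • k • pt (F := F) m none = k • pt m none ∧ g • k • pt (F := F) m (some (0, 0)) = k • pt m (some (0, 0))) →
        (g • k' • pt (F := F) m none = k' • pt m none ∧
          g • k' • pt (F := F) m (some (0, 0)) = k' • pt m (some (0, 0))) →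
        (tHom c).range.map (MulAut.conj k).toMonoidHom = (tHom c).range.map (MulAut.conj k').toMonoidHom := by
      intro k k' h h'
      have key : ∀ o : Om F m, g • o = o → o = k • pt m none ∨ o = k • pt m (some (0, 0)) := by
        intro o ho
        by_contra h0
        push_neg at h0
        exact hg (eq_one_of_fix3 c (hne k) h0.2.symm h0.1.symm h.1 h.2 ho)
      ext t
      rw [two_fix_iff, two_fix_iff]
      rcases key _ h'.1 with e1 | e1 <;> rcases key _ h'.2 with e2 | e2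
      · exact absurd (e1.trans e2.symm) (hne k')
      · rw [e1, e2]
      · rw [e1, e2]; exact and_comm
      · exact absurd (e1.trans e2.symm) (hne k')
    intro U U' ⟨h, hgU⟩ ⟨h', hgU'⟩
    rcases h with ⟨P, rfl⟩ | ⟨hc, hn⟩ <;> rcases h' with ⟨P', rfl⟩ | ⟨hc', hn'⟩
    · obtain ⟨k, hk, hfix, -⟩ := hsyl P hgU
      obtain ⟨k', hk', -, honly⟩ := hsyl P' hgU'
      have e := honly _ hfix
      obtain ⟨a, b, h, hh⟩ := (fix_inf_iff c (k'⁻¹ * k)).1 (by rw [mul_smul, e, inv_smul_smul])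
      have hn : k'⁻¹ * k ∈ Subgroup.normalizer (uSub c : Set ↥(Cfsg.Sz F m)) := by
        rw [mem_normalizer_uSub_iff, mul_smul, e, inv_smul_smul]
      rw [hk, hk']
      ext t
      rw [Subgroup.mem_map_equiv, Subgroup.mem_map_equiv, MulAut.conj_symm_apply, MulAut.conj_symm_apply]
      rw [Subgroup.mem_normalizer_iff.1 hn (k⁻¹ * t * k)]
      simp [mul_assoc]
    · obtain ⟨k, -, hfix, honly⟩ := hsyl P hgU
      rcases htor U' hc' hn' hgU' with ⟨k', -, h1, h2⟩ | ⟨hf, -⟩
      · exact absurd ((honly _ h1).trans (honly _ h2).symm) (hne k')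
      · exact absurd hfix (hf _)
    · obtain ⟨k, -, hfix, honly⟩ := hsyl P' hgU'
      rcases htor U hc hn hgU with ⟨k', -, h1, h2⟩ | ⟨hf, -⟩
      · exact absurd ((honly _ h1).trans (honly _ h2).symm) (hne k')
      · exact absurd hfix (hf _)
    · rcases htor U hc hn hgU with ⟨k, rfl, hk⟩ | ⟨hf, rfl⟩ <;>
        rcases htor U' hc' hn' hgU' with ⟨k', rfl, hk'⟩ | ⟨hf', rfl⟩
      · exact hTeq k k' hk hk'
      · exact absurd hk.1 (hf' _)
      · exact absurd hk'.1 (hf _)
      · rfl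
  refine existsUnique_of_exists_of_unique ?_ huniq
  by_cases hfree : IsFree g
  · refine ⟨cz g, Or.inr ⟨free_cz_cyclic c hfree, Or.inr (card_cz_free c hfree)⟩, mem_cz_self g⟩
  rcases not_free_cases c hfree with ⟨k, u, hu, e⟩ | ⟨k, h, e⟩
  · obtain ⟨P, hP⟩ := exists_sylow c
    refine ⟨((k • P : Sylow 2 ↥(Cfsg.Sz F m)) : Subgroup ↥(Cfsg.Sz F m)), Or.inl ⟨_, rfl⟩, ?_⟩
    rw [e]
    exact ⟨u, hP ▸ hu, rfl⟩
  · refine ⟨(tHom c).range.map (MulAut.conj k).toMonoidHom, Or.inr ⟨?_, Or.inl ?_⟩, ⟨_, ⟨h, rfl⟩, e.symm⟩⟩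
    · haveI : IsCyclic (tHom c).range :=
        isCyclic_of_surjective (tHom c).rangeRestrict (tHom c).rangeRestrict_surjective
      exact isCyclic_of_surjective _ (((tHom c).range.equivMapOfInjective _ (MulAut.conj k).injective).surjective)
    · rw [Subgroup.card_map_of_injective (MulAut.conj k).injective, card_T, c.hF]

theorem ti_subgroups (n : ℕ) (hn : 2 ≤ n) :
    (∃ E : Subgroup ↥(Cfsg.Sz F m), Cfsg.IsElementaryAbelian 2 E ∧ Nat.card ↥E = 2 ^ n ∧
      ∀ x : ↥(Cfsg.Sz F m), E ⊓ E.map (MulAut.conj x).toMonoidHom ≠ ⊥ →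
        x ∈ Subgroup.normalizer (E : Set ↥(Cfsg.Sz F m))) ↔ n ∣ 2 * m + 1 := by
  classical
  haveI : Fact (Nat.Prime 2) := ⟨Nat.prime_two⟩
  have huconj : ∀ (a b b' : F), uG c a b * uG c 0 b' * (uG c a b)⁻¹ = uG c 0 b' := fun a b b' => by
    rw [mul_inv_eq_iff_eq_mul, uG_mul, uG_mul, add_zero, zero_add, zero_mul, add_zero, map_zero, mul_zero,
      add_zero, add_comm b b']
  constructor
  · rintro ⟨E, ⟨hcomm, hsq⟩, hcard, hTI⟩
    obtain ⟨P, hP⟩ := (IsPGroup.of_card (p := 2) hcard).exists_le_sylow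
    obtain ⟨k, hk⟩ := sylow_conj c P
    set E' := E.map (MulAut.conj k⁻¹).toMonoidHom with hE'
    have hmem : ∀ t, t ∈ E' ↔ k * t * k⁻¹ ∈ E := fun t => by
      rw [hE', Subgroup.mem_map_equiv, MulAut.conj_symm_apply, inv_inv]
    have hZ : ∀ t ∈ E', ∃ b, t = uG c 0 b := by
      intro t ht
      have h1 := hP ((hmem t).1 ht)
      rw [hk, Subgroup.mem_map_equiv, MulAut.conj_symm_apply] at h1
      have e : k⁻¹ * (k * t * k⁻¹) * k = t := by group
      rw [e] at h1
      obtain ⟨a, b, rfl⟩ := h1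
      refine ⟨b, ?_⟩
      have h2 := hsq _ ((hmem _).1 ht)
      rw [conj_pow, conj_eq_one_iff, pow_two, uG_sq, ← uG_zero c] at h2
      have ha := (uG_inj c h2).2
      have : a = 0 := by
        rcases mul_eq_zero.1 ha with h | h
        · exact h
        · exact (map_eq_zero _).1 h
      rw [this]
    let S : AddSubgroup F :=
      { carrier := {b | uG c 0 b ∈ E'}
        zero_mem' := by change uG c 0 0 ∈ E'; rw [uG_zero]; exact one_mem _
        add_mem' := fun {a b} ha hb => by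
          have := E'.mul_mem ha hb
          rwa [uG_mul, add_zero, zero_mul, add_zero] at this
        neg_mem' := fun {a} ha => by rwa [CharTwo.neg_eq] }
    have hcardS : Nat.card S = 2 ^ n := by
      rw [← hcard, show Nat.card E = Nat.card E' from
        (Subgroup.card_map_of_injective (MulAut.conj k⁻¹).injective).symm]
      refine Nat.card_congr (Equiv.ofBijective (fun b : S => (⟨uG c 0 b.1, b.2⟩ : E')) ⟨?_, ?_⟩)
      · intro a b h; exact Subtype.ext (uG_inj c (congrArg Subtype.val h)).2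
      · rintro ⟨t, ht⟩
        obtain ⟨b, rfl⟩ := hZ t ht
        exact ⟨⟨b, ht⟩, rfl⟩
    have hscale : ∀ s : F, s ≠ 0 → ∀ e ∈ S, e ≠ 0 → s * e ∈ S → ∀ e' ∈ S, s * e' ∈ S := by
      intro s hs e he he0 hse e' he'
      obtain ⟨-, ⟨h, hh⟩, -⟩ := theta_units_surj c s hs
      have hx := hTI (k * tHom c h * k⁻¹) (fun hbot => by
        have h1 : k * uG c 0 (s * e) * k⁻¹ ∈ E ⊓ E.map (MulAut.conj (k * tHom c h * k⁻¹)).toMonoidHom := by
          refine ⟨(hmem _).1 hse, k * uG c 0 e * k⁻¹, (hmem _).1 he, ?_⟩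
          change (k * tHom c h * k⁻¹) * (k * uG c 0 e * k⁻¹) * (k * tHom c h * k⁻¹)⁻¹ = _
          rw [← hh, show k * uG c 0 ((h : F) ^ 2 * th F m h * e) * k⁻¹ = k * (tHom c h * uG c 0 e * (tHom c h)⁻¹) * k⁻¹ by
            rw [tHom_conj_uG, mul_zero]]
          group
        rw [hbot, Subgroup.mem_bot, conj_eq_one_iff, ← uG_zero c] at h1
        exact mul_ne_zero hs he0 (uG_inj c h1).2)
      have h2 := (Subgroup.mem_normalizer_iff.1 hx _).1 ((hmem _).1 he')
      have h3 : k * uG c 0 (s * e') * k⁻¹ ∈ E := by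
        rw [← hh, show k * uG c 0 ((h : F) ^ 2 * th F m h * e') * k⁻¹ =
          k * (tHom c h * uG c 0 e' * (tHom c h)⁻¹) * k⁻¹ by rw [tHom_conj_uG, mul_zero]]
        convert h2 using 1
        group
      exact (hmem _).2 h3
    obtain ⟨e, he, he0⟩ : ∃ e ∈ S, e ≠ (0 : F) := by
      by_contra hno
      push_neg at hno
      have : Nat.card S = 1 := by
        rw [Nat.card_eq_one_iff_unique]
        exact ⟨⟨fun a b => Subtype.ext ((hno _ a.2).trans (hno _ b.2).symm)⟩, ⟨0⟩⟩
      rw [hcardS] at this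
      have := Nat.one_lt_two_pow (n := n) (by omega)
      omega
    let K : Subfield F :=
      { carrier := {s | s * e ∈ S}
        zero_mem' := by change 0 * e ∈ S; rw [zero_mul]; exact S.zero_mem
        one_mem' := by change 1 * e ∈ S; rw [one_mul]; exact he
        add_mem' := fun {a b} ha hb => by change (a + b) * e ∈ S; rw [add_mul]; exact S.add_mem ha hb
        neg_mem' := fun {a} ha => by change -a * e ∈ S; rw [neg_mul]; exact S.neg_mem ha
        mul_mem' := fun {a b} ha hb => by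
          change a * b * e ∈ S
          rcases eq_or_ne a 0 with rfl | ha0
          · rw [zero_mul, zero_mul]; exact S.zero_mem
          · rw [mul_assoc]; exact hscale a ha0 e he he0 ha _ hb
        inv_mem' := fun a ha => by
          change a⁻¹ * e ∈ S
          rcases eq_or_ne a 0 with rfl | ha0
          · rw [_root_.inv_zero, zero_mul]; exact S.zero_mem
          · refine hscale a⁻¹ (inv_ne_zero ha0) (a * e) ha (mul_ne_zero ha0 he0) ?_ e he
            rw [inv_mul_cancel_left₀ ha0]; exact he }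
    have hcardK : Nat.card K = 2 ^ n := by
      rw [← hcardS]
      refine Nat.card_congr (Equiv.ofBijective (fun s : K => (⟨s.1 * e, s.2⟩ : S)) ⟨?_, ?_⟩)
      · intro a b h; exact Subtype.ext (mul_right_cancel₀ he0 (congrArg Subtype.val h))
      · rintro ⟨b, hb⟩
        exact ⟨⟨b / e, by change b / e * e ∈ S; rw [div_mul_cancel₀ _ he0]; exact hb⟩,
          Subtype.ext (div_mul_cancel₀ _ he0)⟩
    have hpow := Module.natCard_eq_pow_finrank (K := K) (V := F)
    rw [hcardK, Nat.card_eq_fintype_card, c.hF, ← pow_mul] at hpow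
    exact ⟨_, Nat.pow_right_injective le_rfl hpow⟩
  · intro hdvd
    -- the fixed field of the `n`-th power of Frobenius
    haveI : ExpChar F 2 := ExpChar.prime Nat.prime_two
    let K : Subfield F := (iterateFrobenius F 2 n).eqLocusField (RingHom.id F)
    obtain ⟨d, hd⟩ := hdvd
    have hmemK : ∀ x : F, x ∈ K ↔ x ^ 2 ^ n = x := fun x => Iff.rfl
    have hdiv : (2 ^ n - 1) ∣ Fintype.card F - 1 := by
      rw [c.hF, hd, pow_mul]
      have := Nat.sub_dvd_pow_sub_pow (2 ^ n) 1 d
      rwa [one_pow] at this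
    have hcardK : Nat.card K = 2 ^ n := by
      obtain ⟨g, hg⟩ := IsCyclic.exists_generator (α := Fˣ)
      have hgord : orderOf g = Fintype.card F - 1 := by
        rw [orderOf_eq_card_of_forall_mem_zpowers hg, Nat.card_units, Nat.card_eq_fintype_card]
      set j := (Fintype.card F - 1) / (2 ^ n - 1)
      have hord : orderOf (g ^ j) = 2 ^ n - 1 := by
        have hj0 : j ≠ 0 := by
          have := Nat.div_pos (Nat.le_of_dvd (by have := c.eight_le; omega) hdiv)
            (by have := Nat.one_lt_two_pow (n := n) (by omega); omega)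
          omega
        rw [orderOf_pow' _ hj0, hgord, Nat.gcd_eq_right (Nat.div_dvd_of_dvd hdiv),
          Nat.div_div_self hdiv (by have := c.eight_le; omega)]
      have hmem : ∀ i : ℕ, (((g ^ j) ^ i : Fˣ) : F) ∈ K := by
        intro i
        rw [hmemK, ← Units.val_pow_eq_pow_val]
        congr 1
        have h1 : ((g ^ j) ^ i) ^ (2 ^ n - 1) = 1 := by
          rw [← pow_mul, mul_comm, pow_mul, ← hord, pow_orderOf_eq_one, one_pow]
        calc ((g ^ j) ^ i) ^ 2 ^ n = ((g ^ j) ^ i) ^ (2 ^ n - 1 + 1) := by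
              rw [Nat.sub_add_cancel Nat.one_le_two_pow]
          _ = _ := by rw [pow_succ, h1, one_mul]
      apply le_antisymm
      · -- roots of a polynomial of degree `2 ^ n`
        have hsub : ∀ x : K, (x : F) ∈ (Polynomial.X ^ 2 ^ n - Polynomial.X : Polynomial F).roots.toFinset := by
          intro x
          rw [Multiset.mem_toFinset, Polynomial.mem_roots (FiniteField.X_pow_card_pow_sub_X_ne_zero F (by omega) (by norm_num))]
          simp [sub_eq_zero, (hmemK x).1 x.2]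
        have h1 := Finset.card_le_card (s := Finset.univ.image (fun x : K => (x : F))) (fun x hx => by
          simp only [Finset.mem_image, Finset.mem_univ, true_and] at hx
          obtain ⟨y, rfl⟩ := hx
          exact hsub y)
        rw [Finset.card_image_of_injective _ Subtype.val_injective, Finset.card_univ,
          ← Nat.card_eq_fintype_card] at h1
        refine h1.trans ((Multiset.toFinset_card_le _).trans ((Polynomial.card_roots' _).trans ?_))
        rw [FiniteField.X_pow_card_pow_sub_X_natDegree_eq F (by omega) (by norm_num)]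
      · let f : Option (Fin (2 ^ n - 1)) → K := fun o => match o with
          | none => 0
          | some i => ⟨_, hmem i⟩
        have hf : Function.Injective f := by
          intro a b h
          rcases a with _ | i <;> rcases b with _ | i' <;> simp only [f] at h
          · rfl
          · exact absurd (congrArg Subtype.val h).symm (Units.ne_zero (M₀ := F) ((g ^ j) ^ (i' : ℕ)))
          · exact absurd (congrArg Subtype.val h) (Units.ne_zero (M₀ := F) ((g ^ j) ^ (i : ℕ)))
          · congr 1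
            apply Fin.ext
            exact pow_injOn_Iio_orderOf (show (i : ℕ) < orderOf (g ^ j) by rw [hord]; exact i.2)
              (show (i' : ℕ) < orderOf (g ^ j) by rw [hord]; exact i'.2)
              (Units.ext (congrArg Subtype.val h))
        have := Nat.card_le_card_of_injective f hf
        simpa [Nat.sub_add_cancel Nat.one_le_two_pow] using this
    let E : Subgroup ↥(Cfsg.Sz F m) :=
      { carrier := {t | ∃ b ∈ K, t = uG c 0 b}
        one_mem' := ⟨0, K.zero_mem, (uG_zero c).symm⟩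
        mul_mem' := by
          rintro _ _ ⟨a, ha, rfl⟩ ⟨b, hb, rfl⟩
          exact ⟨a + b, K.add_mem ha hb, by rw [uG_mul, add_zero, zero_mul, add_zero]⟩
        inv_mem' := by
          rintro _ ⟨a, ha, rfl⟩
          exact ⟨a, ha, by rw [uG_inv, zero_mul, add_zero]⟩ }
    refine ⟨E, ⟨⟨⟨fun s t => ?_⟩⟩, ?_⟩, ?_, ?_⟩
    · obtain ⟨_, a, ha, rfl⟩ := s
      obtain ⟨_, b, hb, rfl⟩ := t
      apply Subtype.ext
      change uG c 0 a * uG c 0 b = uG c 0 b * uG c 0 a
      rw [uG_mul, uG_mul, add_comm a b, zero_mul]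
    · rintro _ ⟨a, ha, rfl⟩
      rw [pow_two, uG_sq, zero_mul, uG_zero]
    · rw [← hcardK]
      refine (Nat.card_congr (Equiv.ofBijective (fun b : K => (⟨uG c 0 b, b, b.2, rfl⟩ : E)) ⟨?_, ?_⟩)).symm
      · intro a b h; exact Subtype.ext (uG_inj c (congrArg Subtype.val h)).2
      · rintro ⟨_, b, hb, rfl⟩; exact ⟨⟨b, hb⟩, rfl⟩
    · intro x hx
      obtain ⟨t, htm, ht⟩ : ∃ t, t ∈ E ⊓ E.map (MulAut.conj x).toMonoidHom ∧ t ≠ 1 := by
        by_contra hno
        push_neg at hno
        exact hx ((Subgroup.eq_bot_iff_forall _).2 hno)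
      obtain ⟨⟨b, hb, rfl⟩, _, ⟨b', hb', rfl⟩, e⟩ := htm
      simp only [MulEquiv.coe_toMonoidHom, MulAut.conj_apply] at e
      have hb0 : b ≠ 0 := fun h => ht (by rw [h, uG_zero])
      have hxfix : x • pt (F := F) m none = pt m none := by
        by_contra hne
        refine hb0 (uG_fix c (a := 0) (b := b) (o := x • pt m none) ?_ hne).2
        rw [← e, mul_smul, mul_smul, inv_smul_smul, uG_smul_inf]
      obtain ⟨a0, c0, h, rfl⟩ := (fix_inf_iff c x).1 hxfix
      have key : ∀ s, uG c a0 c0 * tHom c h * uG c 0 s * (uG c a0 c0 * tHom c h)⁻¹ =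
          uG c 0 ((h : F) ^ 2 * th F m h * s) := by
        intro s
        rw [show uG c a0 c0 * tHom c h * uG c 0 s * (uG c a0 c0 * tHom c h)⁻¹ =
          uG c a0 c0 * (tHom c h * uG c 0 s * (tHom c h)⁻¹) * (uG c a0 c0)⁻¹ by group, tHom_conj_uG, mul_zero, huconj]
      rw [key] at e
      have hlam : (h : F) ^ 2 * th F m h ∈ K := by
        have h2 := (uG_inj c e).2
        have hb'0 : b' ≠ 0 := fun h' => hb0 (by rw [← h2, h', mul_zero])
        rw [eq_comm, ← div_eq_iff hb'0] at h2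
        rw [← h2]; exact K.div_mem hb hb'
      have hl0 : (h : F) ^ 2 * th F m h ≠ 0 :=
        mul_ne_zero (pow_ne_zero _ h.ne_zero) ((map_ne_zero _).2 h.ne_zero)
      rw [Subgroup.mem_normalizer_iff]
      intro t
      constructor
      · rintro ⟨s, hs, rfl⟩
        exact ⟨_, K.mul_mem hlam hs, key s⟩
      · rintro ⟨s, hs, hs'⟩
        refine ⟨((h : F) ^ 2 * th F m h)⁻¹ * s, K.mul_mem (K.inv_mem hlam) hs, ?_⟩
        have := key (((h : F) ^ 2 * th F m h)⁻¹ * s)
        rw [mul_inv_cancel_left₀ hl0, ← hs'] at this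
        exact (mul_left_cancel (mul_right_cancel this)).symm

end Cfsg.Agent.Lib.Suz
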