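import Cfsg.Agent.Lib.Suz.Partition
import Cfsg.Agent.Lib.Suz.Bridge
import Cfsg.Agent.Lib.AutPSL.Facts

/-! Automorphisms of the Suzuki groups: inner times field. -/

set_option autoImplicit false

namespace Cfsg.Agent.Lib.Suz

open Matrix MulAction

variable {F : Type*} [Field F] [Fintype F] [CharP F 2] {m : ℕ}

omit [Fintype F] in
theorem th_commute (σ : F ≃+* F) (x : F) : σ (th F m x) = th F m (σ x) := by
  rw [th_apply, th_apply, map_pow]

omit [Fintype F] in
theorem map_fS (σ : F ≃+* F) (a b : F) : σ (fS (th F m) a b) = fS (th F m) (σ a) (σ b) := by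
  simp only [fS, map_add, map_mul, map_pow, th_commute]

/-- Entrywise action on `SL₄`. -/
abbrev mapS (σ : F ≃+* F) : SpecialLinearGroup (Fin 4) F →* SpecialLinearGroup (Fin 4) F :=
  SpecialLinearGroup.map σ.toRingHom

omit [Fintype F] in
theorem mapS_uS (σ : F ≃+* F) (a b : F) :
    mapS σ (uS (th F m) a b) = uS (th F m) (σ a) (σ b) := by
  apply sl_ext
  show (uMat (th F m) a b).map σ = uMat (th F m) (σ a) (σ b)
  ext i j
  fin_cases i <;> fin_cases j <;> simp [uMat, map_fS, th_commute]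

omit [Fintype F] in
theorem mapS_tS (σ : F ≃+* F) (h : Fˣ) :
    mapS σ (tS (th F m) h) = tS (th F m) (Units.map σ.toRingHom.toMonoidHom h) := by
  apply sl_ext
  show (tMat (th F m) h).map σ = tMat (th F m) (σ h)
  ext i j
  fin_cases i <;> fin_cases j <;> simp [tMat, th_commute]

omit [Fintype F] [CharP F 2] in
theorem mapS_wS (σ : F ≃+* F) : mapS σ (wS F) = wS F := by
  apply sl_ext
  show (wMat F).map σ = wMat F
  ext i j
  fin_cases i <;> fin_cases j <;> simp [wMat]

variable (c : Ctx F m)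

include c

theorem mapS_mem (σ : F ≃+* F) (g : ↥(Cfsg.Sz F m)) :
    mapS σ (g : SpecialLinearGroup (Fin 4) F) ∈ Cfsg.Sz F m := by
  have hu : ∀ a b, mapS σ (uS (th F m) a b) ∈ Cfsg.Sz F m := fun a b => by
    rw [mapS_uS]; exact uS_mem c _ _
  have ht : ∀ h, mapS σ (tS (th F m) h) ∈ Cfsg.Sz F m := fun h => by
    rw [mapS_tS]; exact tS_mem c _
  have hw : mapS σ (wS F) ∈ Cfsg.Sz F m := by rw [mapS_wS]; exact wS_mem c
  rcases exists_bruhat c g with ⟨a, b, h, rfl⟩ | ⟨a, b, a', b', h, rfl⟩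
  · show mapS σ (uS (th F m) a b * tS (th F m) h) ∈ _
    rw [map_mul]; exact mul_mem (hu a b) (ht h)
  · show mapS σ (uS (th F m) a b * wS F * (uS (th F m) a' b' * tS (th F m) h)) ∈ _
    rw [map_mul, map_mul, map_mul]
    exact mul_mem (mul_mem (hu a b) hw) (mul_mem (hu a' b') (ht h))

omit c in
/-- The field automorphism of the Suzuki group. -/
def fieldAut (c : Ctx F m) : (F ≃+* F) →* MulAut ↥(Cfsg.Sz F m) where
  toFun σ :=
    { toFun := fun g => ⟨mapS σ g, mapS_mem c σ g⟩
      invFun := fun g => ⟨mapS σ.symm g, mapS_mem c σ.symm g⟩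
      left_inv := fun g => by
        apply Subtype.ext; apply sl_ext; ext i j; simp [SpecialLinearGroup.map_apply_coe]
      right_inv := fun g => by
        apply Subtype.ext; apply sl_ext; ext i j; simp [SpecialLinearGroup.map_apply_coe]
      map_mul' := fun g h => Subtype.ext (map_mul (mapS σ) g.1 h.1) }
  map_one' := MulEquiv.ext fun g => by apply Subtype.ext; apply sl_ext; rfl
  map_mul' _ _ := MulEquiv.ext fun g => by apply Subtype.ext; apply sl_ext; rfl

theorem fieldAut_uG (σ : F ≃+* F) (a b : F) : fieldAut c σ (uG c a b) = uG c (σ a) (σ b) :=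
  Subtype.ext (mapS_uS σ a b)

theorem fieldAut_tHom (σ : F ≃+* F) (h : Fˣ) :
    fieldAut c σ (tHom c h) = tHom c (Units.map σ.toRingHom.toMonoidHom h) :=
  Subtype.ext (mapS_tS σ h)

theorem xtheta_inj {x y : F} (h : x * th F m x = y * th F m y) : x = y := by
  rcases eq_or_ne y 0 with rfl | hy
  · simpa using h
  have hx : x ≠ 0 := fun e => by simp [e, hy] at h
  have : (x / y) * th F m (x / y) = 1 := by
    rw [map_div₀, div_mul_div_comm, h, div_self (mul_ne_zero hy ((map_ne_zero _).2 hy))]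
  exact (div_eq_one_iff_eq hy).1 (tits_mul_self c.tits this)

theorem chi_inj {h k : Fˣ} (e : (h : F) ^ 2 * th F m h = (k : F) ^ 2 * th F m k) : h = k := by
  by_contra hne
  refine (sq_mul_theta_ne c (h / k) (fun e' => hne (div_eq_one.1 e'))).2 ?_
  rw [Units.val_div_eq_div_val, map_div₀, div_pow, div_mul_div_comm, e, div_self]
  exact mul_ne_zero (pow_ne_zero _ k.ne_zero) ((map_ne_zero _).2 k.ne_zero)

theorem sq_eq_one_uG {a b : F} (h : uG c a b * uG c a b = 1) : a = 0 := by
  rw [uG_sq, ← uG_zero c] at h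
  rcases mul_eq_zero.1 (uG_inj c h).2 with h1 | h1
  · exact h1
  · exact (map_eq_zero _).1 h1

/-- An automorphism preserving `U` and the torus. -/
def Normal2 (β : MulAut ↥(Cfsg.Sz F m)) : Prop :=
  (∀ a b, β (uG c a b) ∈ uSub c) ∧ ∀ h, β (tHom c h) ∈ (tHom c).range

theorem exists_normal2 (β : MulAut ↥(Cfsg.Sz F m)) :
    ∃ k, Normal2 c (MulAut.conj k * β) := by
  classical
  haveI : Fact (Nat.Prime 2) := ⟨Nat.prime_two⟩
  set V := (uSub c).map β.toMonoidHom with hV
  have hVc : Nat.card V = Fintype.card F ^ 2 := by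
    rw [hV, Subgroup.card_map_of_injective β.injective, card_uSub c]
  have hVp : IsPGroup 2 V := IsPGroup.of_card (n := 2 * (2 * m + 1)) (by
    rw [hVc, c.hF, ← pow_mul]; congr 1; ring)
  obtain ⟨P, hP⟩ := hVp.exists_le_sylow
  have hVP : V = P := Subgroup.eq_of_le_of_card_ge hP (by rw [hVc]; exact le_of_eq (sylow_structure c P).1)
  obtain ⟨k, hk⟩ := sylow_conj c P
  set β1 := MulAut.conj k⁻¹ * β with hβ1
  have hU : (uSub c).map β1.toMonoidHom = uSub c := by
    rw [show β1.toMonoidHom = (MulAut.conj k⁻¹).toMonoidHom.comp β.toMonoidHom from rfl,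
      ← Subgroup.map_map, ← hV, hVP, hk, Subgroup.map_map]
    conv_rhs => rw [← Subgroup.map_id (uSub c)]
    congr 1
    ext x; simp [MulAut.conj_apply, mul_assoc]
  obtain ⟨k0, hk0, hk1⟩ := c.exists_k0
  set h0 : Fˣ := Units.mk0 k0 hk0
  have hh0 : h0 ≠ 1 := fun e => hk1 (congrArg Units.val e)
  have hfix : β1 (tHom c h0) • pt (F := F) m none = pt m none := by
    rw [← mem_normalizer_uSub_iff c, Subgroup.mem_normalizer_iff]
    intro x
    have hN := (mem_normalizer_uSub_iff c (tHom c h0)).2 (tHom_smul_inf c h0)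
    rw [Subgroup.mem_normalizer_iff] at hN
    obtain ⟨y, rfl⟩ := β1.surjective x
    have hiff : ∀ z, β1 z ∈ uSub c ↔ z ∈ uSub c := fun z => by
      conv_lhs => rw [← hU]
      exact Subgroup.mem_map_iff_mem (f := β1.toMonoidHom) β1.injective
    rw [← map_inv, ← map_mul, ← map_mul, hiff, hiff]
    exact hN y
  have hnot : β1 (tHom c h0) ∉ uSub c := by
    intro hmem
    rw [← hU] at hmem
    obtain ⟨a, b, e⟩ := (Subgroup.mem_map_iff_mem (f := β1.toMonoidHom) β1.injective).1 hmem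
    have := (uG_tHom_inj c (a := 0) (b := 0) (h := h0) (a' := a) (b' := b) (h' := 1)
      (by rw [uG_zero, one_mul, map_one, mul_one, e])).2.2
    exact hh0 this
  rcases fix_inf_cases c hfix with h | ⟨o, ho, hoo⟩
  · exact absurd h hnot
  obtain ⟨o, rfl⟩ := (pt_bij m).2 o
  rcases o with _ | ⟨a, b⟩
  · exact absurd rfl ho
  refine ⟨(uG c a b)⁻¹ * k⁻¹, ?_⟩
  set β2 := MulAut.conj ((uG c a b)⁻¹ * k⁻¹) * β with hβ2
  have happ : ∀ x, β2 x = (uG c a b)⁻¹ * β1 x * uG c a b := fun x => by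
    simp [hβ2, hβ1, MulAut.conj_apply, mul_assoc]
  have hu : ∀ a' b', β1 (uG c a' b') ∈ uSub c := fun a' b' => by
    rw [← hU]; exact ⟨_, uG_mem_uSub c a' b', rfl⟩
  have h00 : β2 (tHom c h0) ∈ (tHom c).range := by
    obtain ⟨h, hh⟩ := (two_point_iff c (β2 (tHom c h0))).1 ⟨by
      rw [happ, mul_smul, mul_smul, uG_smul_inf, hfix, inv_smul_eq_iff, uG_smul_inf], by
      rw [happ, mul_smul, mul_smul, uG_smul_zero, hoo, inv_smul_eq_iff, uG_smul_zero]⟩
    exact ⟨h, hh.symm⟩
  refine ⟨fun a' b' => ?_, fun h => ?_⟩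
  · rw [happ]
    exact mul_mem (mul_mem (inv_mem (uG_mem_uSub c a b)) (hu a' b')) (uG_mem_uSub c a b)
  · obtain ⟨h', hh'⟩ := h00
    have hh'1 : h' ≠ 1 := by
      rintro rfl
      rw [map_one] at hh'
      have := β2.injective (hh'.symm.trans (map_one β2).symm)
      exact hh0 (tHom_injective c (this.trans (map_one _).symm))
    refine cz_torus c hh'1 ?_
    rw [Subgroup.mem_centralizer_singleton_iff, hh', ← map_mul, ← map_mul, ← map_mul, ← map_mul,
      mul_comm h h0]

theorem eq_one_of_fix_borel (β : MulAut ↥(Cfsg.Sz F m)) (hu : ∀ a b, β (uG c a b) = uG c a b)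
    (ht : ∀ h, β (tHom c h) = tHom c h) : β = 1 := by
  haveI := faithful c
  have hB : ∀ g : ↥(Cfsg.Sz F m), g • pt (F := F) m none = pt m none → β g = g := by
    intro g hg
    obtain ⟨a, b, h, rfl⟩ := (fix_inf_iff c g).1 hg
    rw [map_mul, hu, ht]
  have hw : β (wG c) • pt (F := F) m none = pt m (some (0, 0)) := by
    obtain ⟨k0, hk0, hk1⟩ := c.exists_k0
    set h0 : Fˣ := Units.mk0 k0 hk0
    have hne : h0⁻¹ ≠ 1 := fun e => hk1 (congrArg Units.val (inv_eq_one.1 e))
    have e : β (wG c) * tHom c h0 * β (wG c) = tHom c h0⁻¹ := by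
      rw [← ht h0, ← map_mul, ← map_mul, wG_conj_tHom, ht]
    have hfix : tHom c h0⁻¹ • β (wG c) • pt (F := F) m none = β (wG c) • pt m none := by
      rw [← mul_smul, ← e, mul_assoc, ← map_mul, wG_mul_self, map_one, mul_one, mul_smul,
        tHom_smul_inf]
    rcases tHom_fix c hne hfix with h | h
    · exfalso
      have h' := β.injective (hB _ h)
      rw [h'] at h
      rw [wG_smul_inf] at h
      simpa using (pt_bij m).1 h
    · exact h
  have hcanon : ∀ o : Om F m, ∃ g : ↥(Cfsg.Sz F m), g • pt (F := F) m none = o ∧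
      β g • pt (F := F) m none = o := by
    intro o
    obtain ⟨o, rfl⟩ := (pt_bij m).2 o
    rcases o with _ | ⟨a, b⟩
    · exact ⟨1, one_smul _ _, by rw [map_one, one_smul]⟩
    · exact ⟨uG c a b * wG c, by rw [mul_smul, wG_smul_inf, uG_smul_zero],
        by rw [map_mul, hu, mul_smul, hw, uG_smul_zero]⟩
  have hall : ∀ g : ↥(Cfsg.Sz F m), β g • pt (F := F) m none = g • pt m none := by
    intro g
    obtain ⟨g0, hg0, hg0'⟩ := hcanon (g • pt (F := F) m none)
    have hfix : (g0⁻¹ * g) • pt (F := F) m none = pt m none := by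
      rw [mul_smul, inv_smul_eq_iff, hg0]
    have := hB _ hfix
    rw [map_mul, map_inv, inv_mul_eq_iff_eq_mul] at this
    rw [this, mul_smul, hfix, hg0']
  refine MulEquiv.ext fun g => eq_of_smul_eq_smul fun o : Om F m => ?_
  obtain ⟨g0, hg0, hg0'⟩ := hcanon o
  show β g • o = g • o
  calc β g • o = β (g * g0) • pt (F := F) m none := by rw [map_mul, mul_smul, hg0']
    _ = g • o := by rw [hall, mul_smul, hg0]

theorem exists_inner_field (β : MulAut ↥(Cfsg.Sz F m)) :
    ∃ k σ, β = MulAut.conj k * fieldAut c σ := by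
  classical
  obtain ⟨k, hU, hT⟩ := exists_normal2 c β
  set β1 := MulAut.conj k * β with hβ1
  have hz : ∀ b, ∃ b', β1 (uG c 0 b) = uG c 0 b' := by
    intro b
    obtain ⟨a', b', e⟩ := hU 0 b
    refine ⟨b', ?_⟩
    have : uG c a' b' * uG c a' b' = 1 := by
      rw [← e, ← map_mul, uG_sq, zero_mul, uG_zero, map_one]
    rwa [sq_eq_one_uG c this] at e
  choose φ hφ using hz
  have hψ : ∀ h, ∃ h', β1 (tHom c h) = tHom c h' := fun h => by
    obtain ⟨h', hh'⟩ := hT h; exact ⟨h', hh'.symm⟩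
  choose ψ hψ using hψ
  have hequiv : ∀ (h : Fˣ) b, φ ((h : F) ^ 2 * th F m h * b) =
      ((ψ h : Fˣ) : F) ^ 2 * th F m (ψ h : Fˣ) * φ b := by
    intro h b
    have := congrArg β1 (tHom_conj_uG c h 0 b)
    rw [map_mul, map_mul, map_inv, hφ, hψ, tHom_conj_uG, mul_zero, mul_zero, hφ] at this
    exact (uG_inj c this).2.symm
  have hadd : ∀ x y, φ (x + y) = φ x + φ y := by
    intro x y
    have := congrArg β1 (uG_mul c 0 x 0 y)
    rw [map_mul, hφ, hφ, uG_mul] at this
    simp only [zero_add, zero_mul, add_zero, hφ] at this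
    exact (uG_inj c this).2.symm
  have hφinj : Function.Injective φ := fun x y e =>
    (uG_inj c (β1.injective (by rw [hφ, hφ, e]))).2
  have hφ0 : φ 0 = 0 := by simpa using hadd 0 0
  have hφ1 : φ 1 ≠ 0 := fun e => one_ne_zero (hφinj (e.trans hφ0.symm))
  obtain ⟨-, ⟨l, hl⟩, -⟩ := theta_units_surj c (φ 1)⁻¹ (inv_ne_zero hφ1)
  let η : F → F := fun x => (φ 1)⁻¹ * φ x
  have hηmul : ∀ x y, η (x * y) = η x * η y := by
    intro x y
    rcases eq_or_ne x 0 with rfl | hx
    · simp [η, hφ0]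
    obtain ⟨-, ⟨h, hh⟩, -⟩ := theta_units_surj c x hx
    have e1 := hequiv h y
    have e2 := hequiv h 1
    rw [hh] at e1 e2
    rw [mul_one] at e2
    simp only [η]
    rw [e1, e2]
    field_simp
  let σ : F ≃+* F := RingEquiv.ofBijective
    ({ toFun := η
       map_one' := by simp [η, hφ1]
       map_mul' := hηmul
       map_zero' := by simp [η, hφ0]
       map_add' := fun x y => by simp only [η]; rw [hadd, mul_add] } : F →+* F)
    (Finite.injective_iff_bijective.1 fun x y e => hφinj (mul_left_cancel₀ (inv_ne_zero hφ1) e))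
  set β2 := (fieldAut c σ)⁻¹ * (MulAut.conj (tHom c l) * β1) with hβ2
  have hη : ∀ b, σ b = (φ 1)⁻¹ * φ b := fun b => rfl
  have hz2 : ∀ b, β2 (uG c 0 b) = uG c 0 b := by
    intro b
    rw [hβ2, MulAut.mul_apply, MulAut.mul_apply, MulAut.conj_apply, hφ, tHom_conj_uG, hl, mul_zero,
      ← hη, ← map_inv, fieldAut_uG, map_zero, show σ⁻¹ (σ b) = b from σ.symm_apply_apply b]
  have ht2 : ∀ h, β2 (tHom c h) = tHom c h := by
    intro h
    obtain ⟨h', hh'⟩ : ∃ h', β2 (tHom c h) = tHom c h' := by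
      refine ⟨Units.map (σ⁻¹ : F ≃+* F).toRingHom.toMonoidHom (ψ h), ?_⟩
      rw [hβ2, MulAut.mul_apply, MulAut.mul_apply, MulAut.conj_apply, hψ,
        show tHom c l * tHom c (ψ h) * (tHom c l)⁻¹ = tHom c (ψ h) by
          rw [← map_mul, mul_comm, map_mul, mul_inv_cancel_right], ← map_inv, fieldAut_tHom]
    have := congrArg β2 (tHom_conj_uG c h 0 1)
    rw [map_mul, map_mul, map_inv, hh', hz2, tHom_conj_uG, mul_zero, mul_zero, hz2, mul_one,
      mul_one] at this
    rw [hh', chi_inj c (uG_inj c this).2]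
  have hU2 : ∀ a b, ∃ a' b', β2 (uG c a b) = uG c a' b' := by
    intro a b
    obtain ⟨a', b', e⟩ := hU a b
    refine ⟨σ⁻¹ (th F m l * a'), σ⁻¹ ((l : F) ^ 2 * th F m l * b'), ?_⟩
    rw [hβ2, MulAut.mul_apply, MulAut.mul_apply, MulAut.conj_apply, e, tHom_conj_uG, ← map_inv,
      fieldAut_uG]
  have hg : ∀ a, ∃ g, β2 (uG c a 0) = uG c a g := by
    intro a
    obtain ⟨a', b', e⟩ := hU2 a 0
    refine ⟨b', ?_⟩
    have := congrArg β2 (uG_sq c a 0)
    rw [map_mul, e, uG_sq, hz2] at this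
    rw [e, xtheta_inj c (uG_inj c this).2]
  choose g hg using hg
  have hfull : ∀ a b, β2 (uG c a b) = uG c a (g a + b) := by
    intro a b
    have h := congrArg β2 (uG_mul c a 0 0 b)
    rw [map_mul, hg, hz2, uG_mul, add_zero, zero_mul, add_zero, zero_add, add_zero] at h
    exact h.symm
  have hgadd : ∀ x y, g (x + y) = g x + g y := by
    intro x y
    have h := congrArg β2 (uG_mul c x 0 y 0)
    rw [map_mul, hg, hg, uG_mul, hfull] at h
    have := (uG_inj c h).2
    linear_combination -this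
  have hgeq : ∀ x, x ≠ 0 → g x = x * th F m x * g 1 := by
    intro x hx
    obtain ⟨⟨h, hh⟩, -, -⟩ := theta_units_surj c x hx
    have e := congrArg β2 (tHom_conj_uG c h 1 0)
    rw [map_mul, map_mul, map_inv, ht2, hg, tHom_conj_uG, mul_one, mul_zero, hfull, add_zero] at e
    rw [← hh, ← (uG_inj c e).2, hh, ← c.tits (h : F), hh]
    ring
  have hg1 : g 1 = 0 := by
    obtain ⟨y, hy0, hy1⟩ := c.exists_k0
    by_contra hne
    have h1y : 1 + y ≠ 0 := fun e => hy1 (by
      have := eq_neg_of_add_eq_zero_right e; rwa [CharTwo.neg_eq] at this)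
    have e := hgadd 1 y
    rw [hgeq _ h1y, hgeq y hy0, map_add, map_one] at e
    have e2 : (y + th F m y) * g 1 = 0 := by linear_combination e
    rcases mul_eq_zero.1 e2 with e3 | e3
    · have := eq_neg_of_add_eq_zero_right e3
      rw [CharTwo.neg_eq] at this
      rcases tits_fixed c.tits this with h | h
      exacts [hy0 h, hy1 h]
    · exact hne e3
  have hu2 : ∀ a b, β2 (uG c a b) = uG c a b := by
    intro a b
    rcases eq_or_ne a 0 with rfl | ha
    · exact hz2 b
    · rw [hfull, hgeq a ha, hg1, mul_zero, zero_add]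
  have h1 := eq_one_of_fix_borel c β2 hu2 ht2
  refine ⟨k⁻¹ * (tHom c l)⁻¹, σ, ?_⟩
  rw [hβ2, inv_mul_eq_one] at h1
  rw [h1, map_mul, map_inv, map_inv, hβ1]
  group

theorem field_inner_trivial {σ : F ≃+* F} {k : ↥(Cfsg.Sz F m)} (h : fieldAut c σ = MulAut.conj k) :
    σ = 1 := by
  have hfix : k • pt (F := F) m none = pt m none := by
    rw [← mem_normalizer_uSub_iff c, Subgroup.mem_normalizer_iff]
    intro x
    rw [← MulAut.conj_apply, ← h]
    constructor
    · rintro ⟨a, b, rfl⟩; rw [fieldAut_uG]; exact uG_mem_uSub c _ _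
    · rintro ⟨a, b, e⟩
      refine ⟨σ.symm a, σ.symm b, (fieldAut c σ).injective ?_⟩
      rw [e, fieldAut_uG, RingEquiv.apply_symm_apply, RingEquiv.apply_symm_apply]
  obtain ⟨a, b, l, rfl⟩ := (fix_inf_iff c k).1 hfix
  have key : ∀ x, σ x = (l : F) ^ 2 * th F m l * x := by
    intro x
    have := congrArg (fun e : MulAut ↥(Cfsg.Sz F m) => e (uG c 0 x)) h
    simp only [fieldAut_uG, MulAut.conj_apply, map_zero, _root_.mul_inv_rev, mul_assoc] at this
    rw [← mul_assoc (tHom c l), ← mul_assoc _ (tHom c l)⁻¹, tHom_conj_uG, mul_zero, uG_inv, uG_mul,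
      uG_mul, map_zero, mul_zero, add_zero, zero_add] at this
    have e := (uG_inj c this).2
    rw [e]
    linear_combination add_self0 (b) + add_self0 (a * th F m a)
  have h1 := key 1
  rw [map_one, mul_one] at h1
  exact RingEquiv.ext fun x => by rw [key, ← h1, one_mul]; rfl

theorem card_out : Nat.card (Cfsg.Out ↥(Cfsg.Sz F m)) = 2 * m + 1 := by
  haveI : Fact (Nat.Prime 2) := ⟨Nat.prime_two⟩
  let ψ : (F ≃+* F) →* Cfsg.Out ↥(Cfsg.Sz F m) :=
    (QuotientGroup.mk' (Cfsg.Inn ↥(Cfsg.Sz F m))).comp (fieldAut c)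
  have hb : Function.Bijective ψ := by
    constructor
    · rw [injective_iff_map_eq_one]
      intro σ hσ
      obtain ⟨k, hk⟩ := (QuotientGroup.eq_one_iff _).1 hσ
      exact field_inner_trivial c hk.symm
    · intro x
      obtain ⟨β, rfl⟩ := QuotientGroup.mk_surjective x
      obtain ⟨k, σ, rfl⟩ := exists_inner_field c β
      refine ⟨σ, ?_⟩
      show QuotientGroup.mk (fieldAut c σ) = QuotientGroup.mk (MulAut.conj k * fieldAut c σ)
      rw [QuotientGroup.eq]
      have := (Cfsg.innNormal ↥(Cfsg.Sz F m)).conj_mem _ ⟨k, rfl⟩ (fieldAut c σ)⁻¹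
      rwa [inv_inv, mul_assoc] at this
  obtain ⟨e⟩ := AutPSL.ringAut_equiv (F := F) (p := 2) (f := 2 * m + 1) (by omega) c.hF
  rw [← Nat.card_congr (Equiv.ofBijective ψ hb), Nat.card_congr e.toEquiv,
    Nat.card_congr Multiplicative.toAdd, Nat.card_zmod]

end Cfsg.Agent.Lib.Suz
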