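import Cfsg.Agent.Lib.Suz.Aut
import Cfsg.Agent.Lib.AutPSL.Field

/-! Subfield subgroups of the Suzuki groups. -/

set_option autoImplicit false

namespace Cfsg.Agent.Lib.Suz

open Matrix MulAction

universe u v

theorem exists_field_hom {F : Type u} [Field F] [Fintype F] {K : Type v} [Field K] [Fintype K]
    {m k : ℕ} (hF : Fintype.card F = 2 ^ (2 * m + 1)) (hK : Fintype.card K = 2 ^ (2 * k + 1))
    (hdiv : 2 * k + 1 ∣ 2 * m + 1) : Nonempty (K →+* F) := by
  haveI : Fact (Nat.Prime 2) := ⟨Nat.prime_two⟩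
  obtain ⟨e⟩ := AutPSL.ringAut_equiv (F := F) (p := 2) (f := 2 * m + 1) (by omega) hF
  obtain ⟨d, hd⟩ := hdiv
  haveI : NeZero (2 * m + 1) := ⟨by omega⟩
  let σ : F ≃+* F := e.symm (Multiplicative.ofAdd (((2 * k + 1 : ℕ) : ZMod (2 * m + 1))))
  have hσ : orderOf σ = d := by
    simp only [σ, MulEquiv.orderOf_eq, orderOf_ofAdd_eq_addOrderOf]
    rw [ZMod.addOrderOf_coe _ (by omega)]
    have hg : Nat.gcd (2 * m + 1) (2 * k + 1) = 2 * k + 1 :=
      Nat.gcd_eq_right ⟨d, hd⟩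
    rw [hg, hd, Nat.mul_div_cancel_left _ (by omega)]
  obtain ⟨ι, -⟩ := AutPSL.exists_embedding hF hσ ⟨2 * k + 1, by rw [hd, mul_comm]⟩ K (by
    rw [hK]
    congr 1
    rw [hd, Nat.mul_div_cancel]
    rcases Nat.eq_zero_or_pos d with h | h
    · rw [h, mul_zero] at hd; omega
    · exact h)
  exact ⟨ι⟩

theorem subgroup_eq_of_card_units {A : Type u} [CommGroup A] [Finite A] [IsCyclic A] {H₁ H₂ : Subgroup A}
    (h : Nat.card H₁ = Nat.card H₂) : H₁ = H₂ := by
  have key : ∀ H : Subgroup A, H = (powMonoidHom (Nat.card H) : A →* A).ker := fun H => by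
    refine Subgroup.eq_of_le_of_card_ge (fun x hx => ?_) ?_
    · show x ^ Nat.card H = 1
      exact congrArg Subtype.val (pow_card_eq_one' (G := H) (x := ⟨x, hx⟩))
    · rw [IsCyclic.card_powMonoidHom_ker]
      exact Nat.gcd_le_right _ Nat.card_pos
  rw [key H₁, key H₂, h]

section

variable {F : Type u} [Field F] [Fintype F] [CharP F 2] {m : ℕ} (c : Ctx F m)
variable {K : Type v} [Field K] [Fintype K] [CharP K 2] {k : ℕ} (cK : Ctx K k)
variable (ι : K →+* F)

theorem th_compat (hdiv : 2 * k + 1 ∣ 2 * m + 1) (hK : Fintype.card K = 2 ^ (2 * k + 1)) (x : K) :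
    ι (th K k x) = th F m (ι x) := by
  obtain ⟨d, hd⟩ := hdiv
  obtain ⟨e, rfl⟩ : ∃ e, d = 2 * e + 1 := by
    rcases Nat.even_or_odd' d with ⟨e, rfl | rfl⟩
    · exfalso
      have : (2 * k + 1) * (2 * e) = 2 * ((2 * k + 1) * e) := by ring
      omega
    · exact ⟨e, rfl⟩
  have hm : m + 1 = (k + 1) + (2 * k + 1) * e := by
    have : (2 * k + 1) * (2 * e + 1) = 2 * ((2 * k + 1) * e) + (2 * k + 1) := by ring
    omega
  rw [th_apply, th_apply, map_pow, hm, pow_add 2 (k + 1), pow_mul 2, ← hK, pow_mul, ← map_pow, ← map_pow,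
    FiniteField.pow_card_pow]

variable (hθ : ∀ x, ι (th K k x) = th F m (ι x))

/-- The units map of `ι`. -/
abbrev iU : Kˣ →* Fˣ := Units.map ι.toMonoidHom

include hθ

omit [Fintype F] [Fintype K] in
theorem map_uS (a b : K) : SpecialLinearGroup.map ι (uS (th K k) a b) = uS (th F m) (ι a) (ι b) := by
  apply sl_ext
  show (uMat (th K k) a b).map ι = uMat (th F m) (ι a) (ι b)
  ext i j
  fin_cases i <;> fin_cases j <;> simp [uMat, fS, hθ]

omit [Fintype F] [Fintype K] in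
theorem map_tS (h : Kˣ) : SpecialLinearGroup.map ι (tS (th K k) h) = tS (th F m) (iU ι h) := by
  apply sl_ext
  show (tMat (th K k) h).map ι = tMat (th F m) (ι h)
  ext i j
  fin_cases i <;> fin_cases j <;> simp [tMat, hθ]

omit [Fintype F] [Fintype K] [CharP F 2] [CharP K 2] hθ in
theorem map_wS : SpecialLinearGroup.map ι (wS K) = wS F := by
  apply sl_ext
  show (wMat K).map ι = wMat F
  ext i j
  fin_cases i <;> fin_cases j <;> simp [wMat]

include c cK

theorem map_mem (g : ↥(Cfsg.Sz K k)) :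
    SpecialLinearGroup.map ι (g : SpecialLinearGroup (Fin 4) K) ∈ Cfsg.Sz F m := by
  have hu : ∀ a b, SpecialLinearGroup.map ι (uS (th K k) a b) ∈ Cfsg.Sz F m := fun a b => by
    rw [map_uS ι hθ]; exact uS_mem c _ _
  have ht : ∀ h, SpecialLinearGroup.map ι (tS (th K k) h) ∈ Cfsg.Sz F m := fun h => by
    rw [map_tS ι hθ]; exact tS_mem c _
  have hw : SpecialLinearGroup.map ι (wS K) ∈ Cfsg.Sz F m := by rw [map_wS]; exact wS_mem c
  rcases exists_bruhat cK g with ⟨a, b, h, rfl⟩ | ⟨a, b, a', b', h, rfl⟩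
  · show SpecialLinearGroup.map ι (uS (th K k) a b * tS (th K k) h) ∈ _
    rw [map_mul]; exact mul_mem (hu a b) (ht h)
  · show SpecialLinearGroup.map ι (uS (th K k) a b * wS K * (uS (th K k) a' b' * tS (th K k) h)) ∈ _
    rw [map_mul, map_mul, map_mul]
    exact mul_mem (mul_mem (hu a b) hw) (mul_mem (hu a' b') (ht h))

omit c cK hθ in
/-- The embedding of a subfield Suzuki group. -/
def embSz (c : Ctx F m) (cK : Ctx K k) (hθ : ∀ x, ι (th K k x) = th F m (ι x)) :
    ↥(Cfsg.Sz K k) →* ↥(Cfsg.Sz F m) where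
  toFun g := ⟨SpecialLinearGroup.map ι g.1, map_mem c cK ι hθ g⟩
  map_one' := Subtype.ext (map_one _)
  map_mul' g h := Subtype.ext (map_mul _ g.1 h.1)

theorem embSz_injective : Function.Injective (embSz ι c cK hθ) := fun g h e => by
  apply Subtype.ext
  apply sl_ext
  exact Matrix.map_injective ι.injective
    (congrArg (fun x : ↥(Cfsg.Sz F m) => ((x : SpecialLinearGroup (Fin 4) F) : Matrix (Fin 4) (Fin 4) F)) e)

theorem embSz_uG (a b : K) : embSz ι c cK hθ (uG cK a b) = uG c (ι a) (ι b) := Subtype.ext (map_uS ι hθ a b)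

theorem embSz_tHom (h : Kˣ) : embSz ι c cK hθ (tHom cK h) = tHom c (iU ι h) := Subtype.ext (map_tS ι hθ h)

theorem embSz_wG : embSz ι c cK hθ (wG cK) = wG c := Subtype.ext (map_wS ι)

omit hθ in
theorem exists_normal_hom (φ : ↥(Cfsg.Sz K k) →* ↥(Cfsg.Sz F m)) (hφ : Function.Injective φ) :
    ∃ g : ↥(Cfsg.Sz F m), (∀ a b, g * φ (uG cK a b) * g⁻¹ ∈ uSub c) ∧
      ∀ h, g * φ (tHom cK h) * g⁻¹ ∈ (tHom c).range := by
  classical
  haveI : Fact (Nat.Prime 2) := ⟨Nat.prime_two⟩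
  have hp : IsPGroup 2 ((uSub cK).map φ) := by
    refine IsPGroup.of_card (n := 2 * (2 * k + 1)) ?_
    rw [Subgroup.card_map_of_injective hφ, card_uSub cK, cK.hF, ← pow_mul]
    congr 1; ring
  obtain ⟨P, hP⟩ := hp.exists_le_sylow
  obtain ⟨g, hg⟩ := sylow_conj c P
  have hU : ∀ a b, g⁻¹ * φ (uG cK a b) * g ∈ uSub c := by
    intro a b
    have := hP ⟨_, uG_mem_uSub cK a b, rfl⟩
    rw [hg, Subgroup.mem_map_equiv, MulAut.conj_symm_apply] at this
    exact this
  have hfix : ∀ h, (g⁻¹ * φ (tHom cK h) * g) • pt (F := F) m none = pt m none := by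
    intro h
    set t := g⁻¹ * φ (tHom cK h) * g
    obtain ⟨a, b, e⟩ := hU 0 1
    have hne : ¬ (a = 0 ∧ b = 0) := by
      rintro ⟨rfl, rfl⟩
      rw [uG_zero, mul_assoc, inv_mul_eq_one] at e
      have h1 : φ (uG cK 0 1) = φ 1 := by
        rw [map_one]
        exact mul_eq_right.1 e.symm
      have h2 := hφ h1
      rw [← uG_zero cK] at h2
      exact one_ne_zero (uG_inj cK h2).2
    have hconj : t * uG c a b * t⁻¹ ∈ uSub c := by
      have := hU (th K k h * 0) ((h : K) ^ 2 * th K k h * 1)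
      rw [← tHom_conj_uG] at this
      rw [← e]
      convert this using 1
      simp only [t, map_mul, map_inv]; group
    obtain ⟨a', b', e'⟩ := hconj
    have hf : uG c a b • t⁻¹ • pt (F := F) m none = t⁻¹ • pt m none := by
      rw [eq_inv_smul_iff, ← mul_smul, ← mul_smul, e', uG_smul_inf]
    have h1 : t⁻¹ • pt (F := F) m none = pt m none := by
      by_contra h2
      exact hne (uG_fix c hf h2)
    rw [inv_smul_eq_iff] at h1
    exact h1.symm
  obtain ⟨h1, hh1⟩ := IsCyclic.exists_generator (α := Kˣ)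
  have hne1 : h1 ≠ 1 := by
    rintro rfl
    obtain ⟨x, hx0, hx1⟩ := cK.exists_k0
    have := hh1 (Units.mk0 x hx0)
    rw [Subgroup.zpowers_one_eq_bot, Subgroup.mem_bot] at this
    exact hx1 (congrArg Units.val this)
  have hnot : g⁻¹ * φ (tHom cK h1) * g ∉ uSub c := by
    intro hm
    have h4 := four_of_fix_inf c hm
    rw [show g⁻¹ * φ (tHom cK h1) * g = g⁻¹ * φ (tHom cK h1) * g⁻¹⁻¹ by rw [inv_inv], conj_pow,
      conj_eq_one_iff, ← map_pow, ← map_pow, ← map_one φ] at h4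
    have := tHom_injective cK ((hφ h4).trans (map_one _).symm)
    have h5 : (h1 : K) ^ 4 = 1 := by simpa using congrArg Units.val this
    exact hne1 (Units.ext (sq_eq_one' (sq_eq_one' (by linear_combination h5))))
  rcases fix_inf_cases c (hfix h1) with h | ⟨o, ho, hoo⟩
  · exact absurd h hnot
  obtain ⟨o, rfl⟩ := (pt_bij m).2 o
  rcases o with _ | ⟨a, b⟩
  · exact absurd rfl ho
  refine ⟨(uG c a b)⁻¹ * g⁻¹, fun a' b' => ?_, fun h => ?_⟩
  · convert mul_mem (mul_mem (inv_mem (uG_mem_uSub c a b)) (hU a' b')) (uG_mem_uSub c a b) using 1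
    group
  · obtain ⟨l, hl⟩ := (two_point_iff c ((uG c a b)⁻¹ * (g⁻¹ * φ (tHom cK h1) * g) * uG c a b)).1
      ⟨by rw [mul_smul, mul_smul, uG_smul_inf, hfix, inv_smul_eq_iff, uG_smul_inf],
        by rw [mul_smul, mul_smul, uG_smul_zero, hoo, inv_smul_eq_iff, uG_smul_zero]⟩
    obtain ⟨n, rfl⟩ := Subgroup.mem_zpowers_iff.1 (hh1 h)
    refine ⟨l ^ n, ?_⟩
    rw [map_zpow, map_zpow, map_zpow, ← hl, ← conj_zpow]
    congr 1
    group

theorem range_le {φ : ↥(Cfsg.Sz K k) →* ↥(Cfsg.Sz F m)} (hφ : Function.Injective φ)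
    (hU : ∀ a b, φ (uG cK a b) ∈ uSub c) (hT : ∀ h, φ (tHom cK h) ∈ (tHom c).range) :
    ∃ l : Fˣ, (embSz ι c cK hθ).range ≤ φ.range.map (MulAut.conj (tHom c l)).toMonoidHom := by
  classical
  choose τ hτ using hT
  let τh : Kˣ →* Fˣ := MonoidHom.mk' τ fun x y => tHom_injective c (by
    rw [hτ, map_mul, map_mul, map_mul, hτ, hτ])
  have hτ_inj : Function.Injective τh := fun x y e => tHom_injective cK (hφ (by
    rw [← hτ, ← hτ]; exact congrArg (tHom c) e))
  have hτr : τh.range = (iU ι).range := subgroup_eq_of_card_units (by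
    rw [← Nat.card_congr (MonoidHom.ofInjective hτ_inj).toEquiv,
      ← Nat.card_congr (MonoidHom.ofInjective (Units.map_injective (f := ι.toMonoidHom) ι.injective)).toEquiv])
  have hz : ∀ b, ∃ b', φ (uG cK 0 b) = uG c 0 b' := by
    intro b
    obtain ⟨a', b', e⟩ := hU 0 b
    refine ⟨b', ?_⟩
    have : uG c a' b' * uG c a' b' = 1 := by
      rw [← e, ← map_mul, uG_sq, zero_mul, uG_zero, map_one]
    rwa [sq_eq_one_uG c this] at e
  choose φ2 hφ2 using hz
  have hφ2inj : Function.Injective φ2 := fun x y e =>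
    (uG_inj cK (hφ (by rw [hφ2, hφ2, e]))).2
  have hφ20 : φ2 0 = 0 := (uG_inj c (a := 0) (a' := 0) (by rw [← hφ2, uG_zero, map_one, uG_zero])).2
  have hb0 : φ2 1 ≠ 0 := fun e => one_ne_zero (hφ2inj (e.trans hφ20.symm))
  obtain ⟨-, ⟨l, hl⟩, -⟩ := theta_units_surj c (φ2 1)⁻¹ (inv_ne_zero hb0)
  refine ⟨l, ?_⟩
  set ψ := (MulAut.conj (tHom c l)).toMonoidHom.comp φ with hψ
  have hψinj : Function.Injective ψ := (MulAut.conj (tHom c l)).injective.comp hφ
  rw [MonoidHom.map_range, ← hψ]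
  have happ : ∀ x, ψ x = tHom c l * φ x * (tHom c l)⁻¹ := fun x => rfl
  have hψT : ∀ h, ψ (tHom cK h) = tHom c (τ h) := by
    intro h
    rw [happ, ← hτ, ← map_mul, mul_comm, map_mul, mul_inv_cancel_right]
  have hTmem : ∀ h : Kˣ, ∃ h', ψ (tHom cK h') = tHom c (iU ι h) := by
    intro h
    obtain ⟨h', hh'⟩ : iU ι h ∈ τh.range := by rw [hτr]; exact ⟨h, rfl⟩
    exact ⟨h', by rw [hψT]; exact congrArg (tHom c) hh'⟩
  let W : Subgroup ↥(Cfsg.Sz F m) := (uSub cK).map ψ
  have hWU : ∀ x ∈ W, ∃ α β, x = uG c α β := by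
    rintro _ ⟨_, ⟨a, b, rfl⟩, rfl⟩
    obtain ⟨α, β, e⟩ := hU a b
    exact ⟨_, _, by rw [happ, e, tHom_conj_uG]⟩
  have hWT : ∀ (h : Kˣ), ∀ x ∈ W, tHom c (iU ι h) * x * (tHom c (iU ι h))⁻¹ ∈ W := by
    rintro h _ ⟨_, ⟨a, b, rfl⟩, rfl⟩
    obtain ⟨h', hh'⟩ := hTmem h
    rw [← hh', ← map_inv, ← map_mul, ← map_mul, tHom_conj_uG]
    exact ⟨_, uG_mem_uSub cK _ _, rfl⟩
  have hW0 : ∀ b : K, uG c 0 (ι b) ∈ W := by
    have hone : uG c 0 1 ∈ W := ⟨uG cK 0 1, uG_mem_uSub cK 0 1, by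
      rw [happ, hφ2, tHom_conj_uG, mul_zero, hl, inv_mul_cancel₀ hb0]⟩
    intro b
    rcases eq_or_ne b 0 with rfl | hb
    · rw [map_zero, uG_zero]; exact one_mem _
    obtain ⟨-, ⟨h, hh⟩, -⟩ := theta_units_surj cK b hb
    have := hWT h _ hone
    rw [tHom_conj_uG, mul_zero, mul_one] at this
    convert this using 2
    rw [← hh, map_mul, map_pow, hθ]; rfl
  have hinv : ∀ β, uG c 0 β ∈ W → β ∈ Set.range ι := by
    rintro β ⟨_, ⟨a, b, rfl⟩, e⟩
    have ha : a = 0 := sq_eq_one_uG cK (hψinj (by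
      rw [map_mul, e, uG_sq, zero_mul, uG_zero, map_one]))
    subst ha
    have e' : φ2 b * (φ2 1)⁻¹ = β := by
      rw [happ, hφ2, tHom_conj_uG, mul_zero, hl] at e
      rw [mul_comm]; exact (uG_inj c e).2
    subst e'
    let f : K → F := fun x => φ2 x * (φ2 1)⁻¹
    have hf : Function.Injective f := fun x y h =>
      hφ2inj (mul_right_cancel₀ (inv_ne_zero hb0) h)
    have hsub : Finset.univ.image ι ⊆ Finset.univ.image f := by
      intro y hy
      obtain ⟨x, -, rfl⟩ := Finset.mem_image.1 hy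
      obtain ⟨_, ⟨a', b', rfl⟩, e2⟩ := hW0 x
      have ha : a' = 0 := sq_eq_one_uG cK (hψinj (by
        rw [map_mul, e2, uG_sq, zero_mul, uG_zero, map_one]))
      subst ha
      rw [happ, hφ2, tHom_conj_uG, mul_zero, hl] at e2
      exact Finset.mem_image.2 ⟨b', Finset.mem_univ _, by rw [← (uG_inj c e2).2, mul_comm]⟩
    have heq := Finset.eq_of_subset_of_card_le hsub (by
      rw [Finset.card_image_of_injective _ hf, Finset.card_image_of_injective _ ι.injective])
    have : f b ∈ Finset.univ.image ι := by rw [heq]; exact Finset.mem_image.2 ⟨b, Finset.mem_univ _, rfl⟩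
    obtain ⟨x, -, hx⟩ := Finset.mem_image.1 this
    exact ⟨x, hx⟩
  have hαβ : ∀ α β, uG c α β ∈ W → α ∈ Set.range ι ∧ β ∈ Set.range ι := by
    intro α β hg
    have hsq := mul_mem hg hg
    rw [uG_sq] at hsq
    obtain ⟨s, hs⟩ := hinv _ hsq
    have hα : α ∈ Set.range ι := by
      rcases eq_or_ne s 0 with rfl | hs0
      · rw [map_zero] at hs
        refine ⟨0, ?_⟩
        rw [map_zero]
        rcases mul_eq_zero.1 hs.symm with h | h
        · exact h.symm
        · exact ((map_eq_zero _).1 h).symm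
      · obtain ⟨-, -, ⟨h, hh⟩⟩ := theta_units_surj cK s hs0
        exact ⟨h, xtheta_inj c (by rw [← hθ, ← map_mul, hh, hs])⟩
    refine ⟨hα, ?_⟩
    rcases eq_or_ne α 0 with rfl | hα0
    · exact hinv _ hg
    obtain ⟨a, rfl⟩ := hα
    obtain ⟨x, hx0, hx1⟩ := cK.exists_k0
    have h1x : 1 + x ≠ 0 := fun e => hx1 (by
      have := eq_neg_of_add_eq_zero_right e; rwa [CharTwo.neg_eq] at this)
    have hcp : ∀ y, y ≠ 0 → uG c (ι y * ι a) (ι (y * th K k y) * β) ∈ W := by
      intro y hy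
      obtain ⟨⟨h, hh⟩, -, -⟩ := theta_units_surj cK y hy
      have := hWT h _ hg
      rw [tHom_conj_uG] at this
      convert this using 2
      · show _ = th F m (ι (h : K)) * ι a
        rw [← hθ, hh]
      · show _ = ι (h : K) ^ 2 * th F m (ι (h : K)) * β
        rw [← hθ, ← map_pow, ← map_mul, ← cK.tits (h : K), hh, mul_comm y]
    have hm := mul_mem (inv_mem (hcp (1 + x) h1x)) (mul_mem hg (hcp x hx0))
    rw [uG_inv, uG_mul, uG_mul] at hm
    have hfirst : ι (1 + x) * ι a + (ι a + ι x * ι a) = 0 := by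
      rw [map_add, map_one]; linear_combination add_self0 (ι a + ι x * ι a)
    rw [hfirst] at hm
    obtain ⟨r, hr⟩ := hinv _ hm
    have hne : x + th K k x ≠ 0 := fun e => by
      have := eq_neg_of_add_eq_zero_right e
      rw [CharTwo.neg_eq] at this
      rcases tits_fixed cK.tits this with h | h
      exacts [hx0 h, hx1 h]
    refine ⟨(r + ((1 + x) * a * th K k ((1 + x) * a) + x * a * th K k a + (a + x * a) * th K k ((1 + x) * a))) /
      (x + th K k x), ?_⟩
    have hne' : ι x + th F m (ι x) ≠ 0 := by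
      rw [← hθ, ← map_add]; exact (_root_.map_ne_zero ι).2 hne
    simp only [map_div₀, map_add, map_mul, map_one, hθ] at hr ⊢
    rw [div_eq_iff hne', hr]
    have h2 : (2 : F) = 0 := two0
    grind
  have hWeq : ∀ a b : K, uG c (ι a) (ι b) ∈ W := by
    intro a b
    have hle : W ≤ (uSub cK).map (embSz ι c cK hθ) := by
      intro x hx
      obtain ⟨α, β, rfl⟩ := hWU x hx
      obtain ⟨⟨a', rfl⟩, b', rfl⟩ := hαβ α β hx
      exact ⟨uG cK a' b', uG_mem_uSub cK a' b', embSz_uG c cK ι hθ a' b'⟩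
    have he := Subgroup.eq_of_le_of_card_ge hle (by
      rw [Subgroup.card_map_of_injective (embSz_injective c cK ι hθ), Subgroup.card_map_of_injective hψinj])
    rw [he]
    exact ⟨uG cK a b, uG_mem_uSub cK a b, embSz_uG c cK ι hθ a b⟩
  -- the reflection
  set j := ψ (wG cK) with hj
  obtain ⟨x0, hx0, hx1⟩ := cK.exists_k0
  set h0 : Kˣ := Units.mk0 x0 hx0
  have hh0 : h0 ≠ 1 := fun e => hx1 (congrArg Units.val e)
  have hjj : j * j = 1 := by rw [hj, ← map_mul, wG_mul_self, map_one]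
  have hjT : j * tHom c (τ h0) * j = tHom c (τ h0⁻¹) := by
    rw [hj, ← hψT, ← map_mul, ← map_mul, wG_conj_tHom, hψT]
  have hτne : τ h0⁻¹ ≠ 1 := fun e => hh0 (inv_eq_one.1 (hτ_inj (e.trans (map_one τh).symm)))
  have hjinf : j • pt (F := F) m none = pt m (some (0, 0)) := by
    have hfix : tHom c (τ h0⁻¹) • j • pt (F := F) m none = j • pt m none := by
      rw [← mul_smul, ← hjT, mul_assoc, hjj, mul_one, mul_smul, tHom_smul_inf]
    rcases tHom_fix c hτne hfix with h | h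
    · exfalso
      obtain ⟨a, b, h', e⟩ := (fix_inf_iff c j).1 h
      obtain ⟨rfl, rfl⟩ := inv_fix_inf c (a := a) (b := b) (h := h') (by rw [← e]; exact hjj)
      rw [map_one, mul_one] at e
      rw [e, mul_assoc, tHom_mul_uG, ← mul_assoc, uG_mul, mul_zero] at hjT
      have e2 := (uG_tHom_inj c (a' := 0) (b' := 0) (hjT.trans (by rw [uG_zero, one_mul]))).2.2
      have : h0 * h0 = 1 := by
        have := hτ_inj (show τh h0 = τh h0⁻¹ from e2)
        rw [← mul_inv_cancel h0]; exact congrArg (h0 * ·) this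
      exact hh0 (Units.ext (sq_eq_one' (by rw [sq]; exact congrArg Units.val this)))
    · exact h
  have hjzero : j • pt (F := F) m (some (0, 0)) = pt m none := by
    rw [← hjinf, ← mul_smul, hjj, one_smul]
  obtain ⟨L, hL⟩ := (two_point_iff c (wG c * j)).1
    ⟨by rw [mul_smul, hjinf, wG_smul_zero], by rw [mul_smul, hjzero, wG_smul_inf]⟩
  have hjL : j = wG c * tHom c L := by rw [← hL, ← mul_assoc, wG_mul_self, one_mul]
  have hψU : ∀ a b, ∃ a' b', ψ (uG cK a b) = uG c (ι a') (ι b') := by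
    intro a b
    have hx : ψ (uG cK a b) ∈ W := ⟨_, uG_mem_uSub cK a b, rfl⟩
    obtain ⟨α, β, e⟩ := hWU _ hx
    rw [e] at hx
    obtain ⟨⟨a', rfl⟩, b', rfl⟩ := hαβ α β hx
    exact ⟨a', b', e⟩
  have horb : ∀ g, ψ g • pt (F := F) m none = pt m none ∨
      ∃ a b : K, ψ g • pt (F := F) m none = pt m (some (ι a, ι b)) := by
    intro g
    rcases exists_bruhat cK g with ⟨a, b, h, rfl⟩ | ⟨a, b, a', b', h, rfl⟩
    · left
      obtain ⟨a1, b1, e⟩ := hψU a b
      rw [map_mul, e, hψT, mul_smul, tHom_smul_inf, uG_smul_inf]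
    · right
      obtain ⟨a1, b1, e⟩ := hψU a b
      obtain ⟨a2, b2, e'⟩ := hψU a' b'
      exact ⟨a1, b1, by rw [map_mul, map_mul, map_mul, e, e', hψT, ← hj, mul_smul, mul_smul,
        mul_smul, tHom_smul_inf, uG_smul_inf, hjinf, uG_smul_zero]⟩
  have hw : wG c ∈ ψ.range := by
    obtain ⟨_, ⟨a1, b1, rfl⟩, e1⟩ := hWeq 1 0
    have hLθ : th F m (L : F) ≠ 0 := (_root_.map_ne_zero _).2 L.ne_zero
    have hf : fS (th F m) (th F m L) 0 = th F m L ^ 2 * (L : F) ^ 2 := by
      simp only [fS, map_zero, mul_zero, zero_add, add_zero, map_pow, c.tits (L : F)]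
    have hne : fS (th F m) (th F m L) 0 ≠ 0 := by
      rw [hf]; exact mul_ne_zero (pow_ne_zero _ hLθ) (pow_ne_zero _ L.ne_zero)
    have hp : ψ (wG cK * uG cK a1 b1 * wG cK) • pt (F := F) m none =
        pt m (some (0, ((L : F) ^ 2 * th F m L)⁻¹)) := by
      rw [map_mul, map_mul, e1, ← hj, mul_smul, mul_smul, hjinf, uG_smul_zero, map_one, map_zero, hjL,
        mul_smul, tHom_smul, mul_one, mul_zero]
      apply Subtype.ext
      show wS F • ovPt (th F m) (some (th F m L, 0)) = _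
      rw [wS_smul_some c _ _ hne, zero_div]
      refine congrArg (fun z => ovPt (th F m) (some ((0 : F), z))) ?_
      rw [hf]
      field_simp
    rcases horb (wG cK * uG cK a1 b1 * wG cK) with h | ⟨a', b', h⟩
    · rw [hp] at h; simpa using (pt_bij m).1 h
    rw [hp] at h
    have hb := (pt_bij m).1 h
    simp only [Option.some.injEq, Prod.mk.injEq] at hb
    have hb0' : b' ≠ 0 := fun e => by
      rw [e, map_zero, inv_eq_zero] at hb
      exact mul_ne_zero (pow_ne_zero _ L.ne_zero) hLθ hb.2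
    obtain ⟨-, ⟨h', hh'⟩, -⟩ := theta_units_surj cK b'⁻¹ (inv_ne_zero hb0')
    have hLι : L = iU ι h' := chi_inj c (by
      show _ = ι (h' : K) ^ 2 * th F m (ι (h' : K))
      rw [← hθ, ← map_pow, ← map_mul, hh', map_inv₀, ← hb.2, inv_inv])
    obtain ⟨h2, hh2⟩ := hTmem h'
    refine ⟨wG cK * (tHom cK h2)⁻¹, ?_⟩
    rw [map_mul, map_inv, hh2, ← hj, hjL, hLι, mul_inv_cancel_right]
  rintro _ ⟨g, rfl⟩
  have hu' : ∀ a b, embSz ι c cK hθ (uG cK a b) ∈ ψ.range := fun a b => by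
    rw [embSz_uG]; obtain ⟨x, -, hx⟩ := hWeq a b; exact ⟨x, hx⟩
  have ht' : ∀ h, embSz ι c cK hθ (tHom cK h) ∈ ψ.range := fun h => by
    rw [embSz_tHom]; obtain ⟨h', hh'⟩ := hTmem h; exact ⟨_, hh'⟩
  have hw' : embSz ι c cK hθ (wG cK) ∈ ψ.range := by rw [embSz_wG]; exact hw
  rcases exists_bruhat cK g with ⟨a, b, h, rfl⟩ | ⟨a, b, a', b', h, rfl⟩
  · rw [map_mul]; exact mul_mem (hu' _ _) (ht' _)
  · simp only [map_mul]; exact mul_mem (mul_mem (hu' _ _) hw') (mul_mem (hu' _ _) (ht' _))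

theorem conj_of_iso (φ : ↥(Cfsg.Sz K k) →* ↥(Cfsg.Sz F m)) (hφ : Function.Injective φ) :
    ∃ g : ↥(Cfsg.Sz F m), φ.range.map (MulAut.conj g).toMonoidHom = (embSz ι c cK hθ).range := by
  obtain ⟨g, hU, hT⟩ := exists_normal_hom c cK φ hφ
  have hinj : Function.Injective ((MulAut.conj g).toMonoidHom.comp φ) := (MulAut.conj g).injective.comp hφ
  obtain ⟨l, hl⟩ := range_le c cK ι hθ hinj hU hT
  refine ⟨tHom c l * g, (Subgroup.eq_of_le_of_card_ge (hl.trans (le_of_eq ?_)) ?_).symm⟩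
  · rw [← MonoidHom.map_range, Subgroup.map_map]
    congr 1
    ext x
    simp [MulAut.conj_apply, mul_assoc]
  · rw [Subgroup.card_map_of_injective (MulAut.conj _).injective,
      ← Nat.card_congr (MonoidHom.ofInjective hφ).toEquiv,
      ← Nat.card_congr (MonoidHom.ofInjective (embSz_injective c cK ι hθ)).toEquiv]

end

end Cfsg.Agent.Lib.Suz
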