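import Cfsg.Agent.Lib.Suz.Partition

/-! The Suzuki groups have no nilpotent minimal cover. -/

set_option autoImplicit false

namespace Cfsg.Agent.Lib.Suz

open Matrix MulAction
open scoped Pointwise

variable {F : Type*} [Field F] [Fintype F] [CharP F 2] {m : ℕ} (c : Ctx F m)

/-- the members of the natural partition -/
def IsMember (U : Subgroup ↥(Cfsg.Sz F m)) : Prop :=
  (∃ P : Sylow 2 ↥(Cfsg.Sz F m), U = (P : Subgroup ↥(Cfsg.Sz F m))) ∨
    (IsCyclic ↥U ∧ Nat.card ↥U ∈ ({2 ^ (2 * m + 1) - 1, 2 ^ (2 * m + 1) + 2 ^ (m + 1) + 1,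
      2 ^ (2 * m + 1) - 2 ^ (m + 1) + 1} : Set ℕ))

include c

theorem isMember_uSub (k : ↥(Cfsg.Sz F m)) : IsMember ((uSub c).map (MulAut.conj k).toMonoidHom) := by
  obtain ⟨P, hP⟩ := exists_sylow c
  haveI : Fact (Nat.Prime 2) := ⟨Nat.prime_two⟩
  exact Or.inl ⟨k • P, by rw [← hP]; rfl⟩

theorem isMember_torus (k : ↥(Cfsg.Sz F m)) : IsMember ((tHom c).range.map (MulAut.conj k).toMonoidHom) := by
  haveI : IsCyclic (tHom c).range :=
    isCyclic_of_surjective (tHom c).rangeRestrict (tHom c).rangeRestrict_surjective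
  refine Or.inr ⟨isCyclic_of_surjective _
    (((tHom c).range.equivMapOfInjective _ (MulAut.conj k).injective).surjective), Or.inl ?_⟩
  rw [Subgroup.card_map_of_injective (MulAut.conj k).injective, card_T, c.hF]

theorem isMember_cz {g : ↥(Cfsg.Sz F m)} (hg : IsFree g) : IsMember (cz g) :=
  Or.inr ⟨free_cz_cyclic c hg, Or.inr (card_cz_free c hg)⟩

theorem member_eq {U U' : Subgroup ↥(Cfsg.Sz F m)} {g : ↥(Cfsg.Sz F m)} (hg : g ≠ 1)
    (hU : IsMember U) (hgU : g ∈ U) (hU' : IsMember U') (hgU' : g ∈ U') : U = U' :=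
  (partition c g hg).unique ⟨hU, hgU⟩ ⟨hU', hgU'⟩

theorem cz_le_member {g : ↥(Cfsg.Sz F m)} (hg : g ≠ 1) : ∃ U, IsMember U ∧ cz g ≤ U ∧ g ∈ U := by
  by_cases hfree : IsFree g
  · exact ⟨cz g, isMember_cz c hfree, le_rfl, mem_cz_self g⟩
  rcases not_free_cases c hfree with ⟨k, u, hu, rfl⟩ | ⟨k, h, rfl⟩
  · refine ⟨_, isMember_uSub c k, ?_, ⟨u, hu, rfl⟩⟩
    rw [cz_conj]
    exact Subgroup.map_mono (cz_uG c hu fun e => hg (by rw [e, mul_one, mul_inv_cancel]))
  · refine ⟨_, isMember_torus c k, ?_, ⟨_, ⟨h, rfl⟩, rfl⟩⟩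
    rw [cz_conj]
    exact Subgroup.map_mono (cz_torus c fun e => hg (by rw [e, map_one, mul_one, mul_inv_cancel]))

theorem nilpotent_le_member {A : Subgroup ↥(Cfsg.Sz F m)} (hA : Group.IsNilpotent A) {g : ↥(Cfsg.Sz F m)}
    (hgA : g ∈ A) (hg : g ≠ 1) : ∃ U, IsMember U ∧ A ≤ U ∧ g ∈ U := by
  haveI := hA
  haveI : Nontrivial A := ⟨⟨g, hgA⟩, 1, fun e => hg (congrArg Subtype.val e)⟩
  haveI : Nontrivial (Subgroup.center A) := by
    rw [Subgroup.nontrivial_iff_ne_bot]
    exact Group.IsNilpotent.center_ne_bot A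
  obtain ⟨z, hz⟩ := exists_ne (1 : Subgroup.center A)
  have hz1 : ((z : A) : ↥(Cfsg.Sz F m)) ≠ 1 := fun e => hz (Subtype.ext (Subtype.ext e))
  obtain ⟨U, hU, hle, -⟩ := cz_le_member c hz1
  have hAU : A ≤ U := fun a ha => hle (Subgroup.mem_centralizer_singleton_iff.2
    (congrArg Subtype.val (Subgroup.mem_center_iff.1 z.2 ⟨a, ha⟩)))
  exact ⟨U, hU, hAU, hAU hgA⟩

theorem no_nilpotent_minimal_cover (𝓐 : Finset (Subgroup ↥(Cfsg.Sz F m)))
    (hproper : ∀ g : ↥(Cfsg.Sz F m), ∃ A ∈ 𝓐, g ∈ A) (hnil : ∀ A ∈ 𝓐, Group.IsNilpotent ↥A) :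
    ∃ 𝓑 : Finset (Subgroup ↥(Cfsg.Sz F m)), (∀ A ∈ 𝓑, A ≠ ⊤) ∧ (∀ g, ∃ A ∈ 𝓑, g ∈ A) ∧ 𝓑.card < 𝓐.card := by
  classical
  haveI : Fintype ↥(Cfsg.Sz F m) := Fintype.ofFinite _
  haveI : Fintype (Om F m) := Fintype.ofFinite _
  let free : Finset (Subgroup ↥(Cfsg.Sz F m)) := (Finset.univ.filter fun g => IsFree g).image cz
  let stabs : Finset (Subgroup ↥(Cfsg.Sz F m)) :=
    Finset.univ.image fun o : Om F m => MulAction.stabilizer ↥(Cfsg.Sz F m) o
  refine ⟨stabs ∪ free, ?_, ?_, ?_⟩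
  · intro A hA htop
    rcases Finset.mem_union.1 hA with h | h
    · obtain ⟨o, -, rfl⟩ := Finset.mem_image.1 h
      obtain ⟨k, rfl⟩ := exists_smul_inf c o
      have h1 : k * wG c * k⁻¹ ∈ MulAction.stabilizer ↥(Cfsg.Sz F m) (k • pt (F := F) m none) := htop ▸ Subgroup.mem_top _
      rw [MulAction.mem_stabilizer_iff, mul_smul, mul_smul, inv_smul_smul, wG_smul_inf] at h1
      simpa using (pt_bij m).1 (MulAction.injective k h1)
    · obtain ⟨g, hg, rfl⟩ := Finset.mem_image.1 h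
      simp only [Finset.mem_filter, Finset.mem_univ, true_and] at hg
      have hu : uG c 0 1 ∈ cz g := htop ▸ Subgroup.mem_top _
      have h1 : uG c 0 1 ≠ 1 := fun e => by rw [← uG_zero c] at e; exact one_ne_zero (uG_inj c e).2
      exact free_of_mem_cz c hg hu h1 (pt m none) (uG_smul_inf c 0 1)
  · intro g
    by_cases hfree : IsFree g
    · exact ⟨cz g, Finset.mem_union_right _ (Finset.mem_image.2 ⟨g, by simpa using hfree, rfl⟩), mem_cz_self g⟩
    · simp only [IsFree, not_forall, ne_eq, not_not] at hfree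
      obtain ⟨o, ho⟩ := hfree
      exact ⟨_, Finset.mem_union_left _ (Finset.mem_image.2 ⟨o, Finset.mem_univ _, rfl⟩), ho⟩
  · obtain ⟨k0, hk0⟩ : ∃ k0 : Om F m → ↥(Cfsg.Sz F m), ∀ o, k0 o • pt (F := F) m none = o :=
      ⟨fun o => (exists_smul_inf c o).choose, fun o => (exists_smul_inf c o).choose_spec⟩
    let sylows : Finset (Subgroup ↥(Cfsg.Sz F m)) :=
      Finset.univ.image fun o : Om F m => (uSub c).map (MulAut.conj (k0 o)).toMonoidHom
    let T0 : Subgroup ↥(Cfsg.Sz F m) := (tHom c).range.map (MulAut.conj 1).toMonoidHom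
    have hu1 : uG c 0 1 ≠ 1 := fun e => by rw [← uG_zero c] at e; exact one_ne_zero (uG_inj c e).2
    have hu_fix : ∀ k o, (k * uG c 0 1 * k⁻¹) • o = o → o = k • pt (F := F) m none := by
      intro k o ho
      rw [mul_smul, mul_smul, smul_eq_iff_eq_inv_smul] at ho
      by_contra hne
      exact one_ne_zero (uG_fix c ho fun e => hne (by rw [← e, smul_inv_smul])).2
    have hconj_fix : ∀ o a b, (k0 o * uG c a b * (k0 o)⁻¹) • o = o := by
      intro o a b
      have : (k0 o * uG c a b * (k0 o)⁻¹) • k0 o • pt (F := F) m none = k0 o • pt m none := by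
        rw [mul_smul, mul_smul, inv_smul_smul, uG_smul_inf]
      rwa [hk0] at this
    have hsyl_card : sylows.card = Fintype.card (Om F m) := by
      rw [Finset.card_image_of_injective _ ?_, Finset.card_univ]
      intro o o' h
      have h1 : k0 o * uG c 0 1 * (k0 o)⁻¹ ∈ (uSub c).map (MulAut.conj (k0 o')).toMonoidHom :=
        (SetLike.ext_iff.1 h _).1 ⟨_, uG_mem_uSub c 0 1, rfl⟩
      obtain ⟨u, ⟨a, b, rfl⟩, e⟩ := h1
      have e' : k0 o' * uG c a b * (k0 o')⁻¹ = k0 o * uG c 0 1 * (k0 o)⁻¹ := e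
      have := hu_fix (k0 o) o' (e' ▸ hconj_fix o' a b)
      rw [this, hk0]
    have hdisj1 : T0 ∉ sylows := by
      intro h
      obtain ⟨o, -, e⟩ := Finset.mem_image.1 h
      have h1 : k0 o * uG c 0 1 * (k0 o)⁻¹ ∈ T0 := e ▸ ⟨_, uG_mem_uSub c 0 1, rfl⟩
      obtain ⟨ha, hb⟩ := (two_fix_iff c _ 1).1 h1
      rw [one_smul] at ha hb
      have := (hu_fix _ _ ha).trans (hu_fix _ _ hb).symm
      simpa using (pt_bij m).1 this
    have hdisj2 : Disjoint (insert T0 sylows) free := by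
      rw [Finset.disjoint_left]
      intro A hA hA'
      obtain ⟨g, hg, rfl⟩ := Finset.mem_image.1 hA'
      simp only [Finset.mem_filter, Finset.mem_univ, true_and] at hg
      rcases Finset.mem_insert.1 hA with h | h
      · have h1 : g ∈ T0 := h ▸ mem_cz_self g
        exact hg _ ((two_fix_iff c g 1).1 h1).1
      · obtain ⟨o, -, e⟩ := Finset.mem_image.1 h
        have h1 : g ∈ (uSub c).map (MulAut.conj (k0 o)).toMonoidHom := e ▸ mem_cz_self g
        obtain ⟨u, ⟨a, b, rfl⟩, rfl⟩ := h1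
        exact hg o (hconj_fix o a b)
    let members : Finset (Subgroup ↥(Cfsg.Sz F m)) := insert T0 sylows ∪ free
    have hmem : ∀ U ∈ members, IsMember U ∧ ∃ g ∈ U, g ≠ 1 := by
      intro U hU
      rcases Finset.mem_union.1 hU with h | h
      · rcases Finset.mem_insert.1 h with rfl | h
        · obtain ⟨s, hs0, hs1⟩ := c.exists_k0
          refine ⟨isMember_torus c 1, _, ⟨_, ⟨Units.mk0 s hs0, rfl⟩, rfl⟩, fun e => hs1 ?_⟩
          simp only [MulEquiv.coe_toMonoidHom, MulAut.conj_apply, one_mul, inv_one, mul_one] at e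
          exact congrArg Units.val (tHom_injective c (e.trans (map_one _).symm))
        · obtain ⟨o, -, rfl⟩ := Finset.mem_image.1 h
          refine ⟨isMember_uSub c _, _, ⟨_, uG_mem_uSub c 0 1, rfl⟩, fun e => hu1 ?_⟩
          exact (MulAut.conj (k0 o)).injective (e.trans (map_one (MulAut.conj (k0 o))).symm)
      · obtain ⟨g, hg, rfl⟩ := Finset.mem_image.1 h
        simp only [Finset.mem_filter, Finset.mem_univ, true_and] at hg
        exact ⟨isMember_cz c hg, g, mem_cz_self g, isFree_ne_one hg⟩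
    have key : members.card ≤ 𝓐.card := by
      choose! hM g hgU hg1 using hmem
      choose Af hAf hgA using hproper
      refine Finset.card_le_card_of_injOn (fun U => Af (g U)) (fun U _ => hAf _) ?_
      intro U hU U' hU' e
      simp only [Finset.mem_coe] at hU hU'
      obtain ⟨V, hV, hle, hgV⟩ := nilpotent_le_member c (hnil _ (hAf (g U))) (hgA (g U)) (hg1 U hU)
      have e1 := member_eq c (hg1 U hU) (hM U hU) (hgU U hU) hV hgV
      have e2 := member_eq c (hg1 U' hU') (hM U' hU') (hgU U' hU') hV (hle (by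
        have e' : Af (g U) = Af (g U') := e
        rw [e']; exact hgA _))
      exact e1.trans e2.symm
    refine lt_of_lt_of_le ?_ key
    change (stabs ∪ free).card < (insert T0 sylows ∪ free).card
    rw [Finset.card_union_of_disjoint hdisj2, Finset.card_insert_of_notMem hdisj1, hsyl_card]
    have h1 : stabs.card ≤ Fintype.card (Om F m) := Finset.card_image_le.trans (Finset.card_univ (α := Om F m)).le
    have := Finset.card_union_le stabs free
    omega

end Cfsg.Agent.Lib.Suz
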