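import Cfsg.Agent.Lib.Suz.Partition

/-! Transitive actions of Suzuki groups of fixity two. -/

set_option autoImplicit false

namespace Cfsg.Agent.Lib.Suz

open Matrix MulAction
open scoped Pointwise

theorem mem_zpowers_of_cyclic {K : Type*} [Group K] [Finite K] [IsCyclic K] (x s : K)
    (h : orderOf x = orderOf s) : s ∈ Subgroup.zpowers x := by
  classical
  haveI := Fintype.ofFinite K
  have hsub : (Finset.range (orderOf x)).image (x ^ ·) ⊆ Finset.univ.filter (fun a => a ^ orderOf x = 1) := by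
    intro a ha
    simp only [Finset.mem_image, Finset.mem_range] at ha
    obtain ⟨i, -, rfl⟩ := ha
    simp only [Finset.mem_filter, Finset.mem_univ, true_and]
    rw [← pow_mul, mul_comm, pow_mul, pow_orderOf_eq_one, one_pow]
  have hcim : ((Finset.range (orderOf x)).image (x ^ ·)).card = orderOf x := by
    rw [Finset.card_image_of_injOn, Finset.card_range]
    intro i hi j hj hij
    simp only [Finset.coe_range, Set.mem_Iio] at hi hj
    exact pow_injOn_Iio_orderOf hi hj hij
  have heq := Finset.eq_of_subset_of_card_le hsub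
    (by rw [hcim]; exact IsCyclic.card_pow_eq_one_le (orderOf_pos x))
  have hs : s ∈ Finset.univ.filter (fun a => a ^ orderOf x = 1) := by
    simp only [Finset.mem_filter, Finset.mem_univ, true_and, h, pow_orderOf_eq_one]
  rw [← heq, Finset.mem_image] at hs
  obtain ⟨i, -, hi⟩ := hs
  exact ⟨i, by simpa using hi⟩

/-- lower bound for the number of fixed points in a transitive action -/
theorem fix_lower {G Ω : Type*} [Group G] [Finite G] [Finite Ω] [MulAction G Ω]
    [MulAction.IsPretransitive G Ω] (g : G) (α : Ω) (S : Set G)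
    (hS : ∀ s ∈ S, s ∈ MulAction.stabilizer G α ∧ IsConj g s) :
    Nat.card (Subgroup.centralizer ({g} : Set G)) * Nat.card S ≤
      Nat.card (MulAction.fixedBy Ω g) * Nat.card (MulAction.stabilizer G α) := by
  classical
  have hk : ∀ s ∈ S, ∃ k : G, k⁻¹ * g * k = s := fun s hs => by
    obtain ⟨k, hk⟩ := isConj_iff.1 (hS s hs).2
    exact ⟨k⁻¹, by rw [inv_inv]; exact hk⟩
  choose! k hk using hk
  have hr : ∀ o : Ω, ∃ r : G, r • α = o := fun o => MulAction.exists_smul_eq G α o
  choose r hr using hr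
  have hfix : ∀ (t : Subgroup.centralizer ({g} : Set G)) (s : S),
      g • ((t.1 * k s.1) • α) = (t.1 * k s.1) • α := by
    intro t s
    have ht := Subgroup.mem_centralizer_singleton_iff.1 t.2
    have hs : s.1 • α = α := (hS s.1 s.2).1
    calc g • ((t.1 * k s.1) • α) = (t.1 * k s.1) • ((k s.1)⁻¹ * g * k s.1) • α := by
          rw [← mul_smul, ← mul_smul]; congr 1
          calc g * (t.1 * k s.1) = g * t.1 * k s.1 := by group
            _ = t.1 * g * k s.1 := by rw [ht]
            _ = _ := by group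
      _ = _ := by rw [hk s.1 s.2, hs]
  let f : Subgroup.centralizer ({g} : Set G) × S → MulAction.fixedBy Ω g × MulAction.stabilizer G α :=
    fun p => ⟨⟨(p.1.1 * k p.2.1) • α, hfix p.1 p.2⟩,
      ⟨(r ((p.1.1 * k p.2.1) • α))⁻¹ * (p.1.1 * k p.2.1), by
        rw [MulAction.mem_stabilizer_iff, mul_smul, inv_smul_eq_iff, hr]⟩⟩
  have hf : Function.Injective f := by
    rintro ⟨t, s⟩ ⟨t', s'⟩ e
    have e1 : (t.1 * k s.1) • α = (t'.1 * k s'.1) • α := congrArg (fun q => (q.1 : Ω)) e
    have e2 := congrArg (fun q => (q.2 : G)) e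
    simp only [f, e1] at e2
    have e3 := mul_left_cancel e2
    have hs : s.1 = s'.1 := by
      rw [← hk s.1 s.2, ← hk s'.1 s'.2]
      have ht := Subgroup.mem_centralizer_singleton_iff.1 t.2
      have ht' := Subgroup.mem_centralizer_singleton_iff.1 t'.2
      calc (k s.1)⁻¹ * g * k s.1 = (t.1 * k s.1)⁻¹ * (t.1 * g) * k s.1 := by group
        _ = (t.1 * k s.1)⁻¹ * g * (t.1 * k s.1) := by rw [ht]; group
        _ = (t'.1 * k s'.1)⁻¹ * g * (t'.1 * k s'.1) := by rw [e3]
        _ = (k s'.1)⁻¹ * (t'.1⁻¹ * (g * t'.1)) * k s'.1 := by group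
        _ = _ := by rw [← ht', inv_mul_cancel_left]
    have hs' : s = s' := Subtype.ext hs
    subst hs'
    have ht : t = t' := Subtype.ext (mul_right_cancel e3)
    rw [ht]
  have := Nat.card_le_card_of_injective f hf
  rwa [Nat.card_prod, Nat.card_prod] at this

variable {F : Type*} [Field F] [Fintype F] [CharP F 2] {m : ℕ} (c : Ctx F m)
variable {Ω : Type*} [Finite Ω] [MulAction ↥(Cfsg.Sz F m) Ω] [MulAction.IsPretransitive ↥(Cfsg.Sz F m) Ω]

omit [Fintype F] [CharP F 2] [MulAction.IsPretransitive ↥(Cfsg.Sz F m) Ω] in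
theorem stab_conj (k : ↥(Cfsg.Sz F m)) (α : Ω) (x : ↥(Cfsg.Sz F m)) :
    x ∈ MulAction.stabilizer ↥(Cfsg.Sz F m) (k • α) ↔ k⁻¹ * x * k ∈ MulAction.stabilizer ↥(Cfsg.Sz F m) α := by
  rw [MulAction.mem_stabilizer_iff, MulAction.mem_stabilizer_iff, mul_smul, mul_smul, inv_smul_eq_iff]

include c

theorem conj_inverse_torus (h : Fˣ) : IsConj (tHom c h) (tHom c h)⁻¹ :=
  isConj_iff.2 ⟨wG c, by rw [wG_inv, wG_conj_tHom, map_inv]⟩

theorem free_four_conj {x : ↥(Cfsg.Sz F m)} {p : ℕ} (hp : p.Prime) (ho : orderOf x = p) (hfree : IsFree x) :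
    ∃ S : Set ↥(Cfsg.Sz F m), Nat.card S = 4 ∧ ∀ s ∈ S, s ∈ Subgroup.zpowers x ∧ IsConj x s := by
  classical
  haveI : Fact p.Prime := ⟨hp⟩
  set C := cz x
  set N := Subgroup.normalizer (C : Set ↥(Cfsg.Sz F m))
  have hN : Nat.card N = 4 * Nat.card C := by
    obtain ⟨a, b, -, -, hcover, hNa, hNb, -, -⟩ := exists_tori c
    have key : ∀ a, x ∈ fset (cz a) →
        Nat.card (Subgroup.normalizer (cz a : Set ↥(Cfsg.Sz F m))) = 4 * Nat.card (cz a) →
        Nat.card N = 4 * Nat.card C := by
      rintro a ⟨-, k, hk⟩ hNa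
      have hC : C = (cz a).map (MulAut.conj k).toMonoidHom := hk
      have hNN : N = (Subgroup.normalizer (cz a : Set ↥(Cfsg.Sz F m))).map (MulAut.conj k).toMonoidHom := by
        ext t
        simp only [N, hC, Subgroup.mem_map_equiv, MulAut.conj_symm_apply, Subgroup.mem_normalizer_iff,
          SetLike.mem_coe]
        constructor
        · intro h n
          have := h (k * n * k⁻¹)
          simpa [mul_assoc] using this
        · intro h n
          have := h (k⁻¹ * n * k)
          simpa [mul_assoc] using this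
      rw [hNN, hC, Subgroup.card_map_of_injective (MulAut.conj k).injective,
        Subgroup.card_map_of_injective (MulAut.conj k).injective, hNa]
    rcases hcover x hfree with h | h
    · exact key a h hNa
    · exact key b h hNb
  haveI : IsCyclic C := free_cz_cyclic c hfree
  have hsub : ∀ s ∈ C, orderOf s = p → s ∈ Subgroup.zpowers x := by
    intro s hs hso
    obtain ⟨i, hi⟩ := mem_zpowers_of_cyclic (⟨x, mem_cz_self x⟩ : C) ⟨s, hs⟩
      ((Subgroup.orderOf_coe (⟨x, mem_cz_self x⟩ : C)).symm.trans ((ho.trans hso.symm).trans (Subgroup.orderOf_coe (⟨s, hs⟩ : C))))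
    exact ⟨i, by simpa using congrArg Subtype.val hi⟩
  let f : ↥N → ↥(Cfsg.Sz F m) := fun n => n.1 * x * n.1⁻¹
  refine ⟨Set.range f, ?_, ?_⟩
  · have hfib : ∀ n n' : ↥N, f n = f n' ↔ (QuotientGroup.mk n : ↥N ⧸ C.subgroupOf N) = QuotientGroup.mk n' := by
      intro n n'
      rw [QuotientGroup.eq, Subgroup.mem_subgroupOf, Subgroup.mem_centralizer_singleton_iff]
      simp only [f, Subgroup.coe_mul, InvMemClass.coe_inv]
      constructor
      · intro e
        calc n.1⁻¹ * n'.1 * x = n.1⁻¹ * (n'.1 * x * n'.1⁻¹) * n'.1 := by group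
          _ = n.1⁻¹ * (n.1 * x * n.1⁻¹) * n'.1 := by rw [e]
          _ = _ := by group
      · intro e
        calc n.1 * x * n.1⁻¹ = n.1 * (x * (n.1⁻¹ * n'.1)) * n'.1⁻¹ := by group
          _ = n.1 * (n.1⁻¹ * n'.1 * x) * n'.1⁻¹ := by rw [e]
          _ = _ := by group
    let g : ↥N ⧸ C.subgroupOf N → Set.range f := fun q => ⟨f q.out, q.out, rfl⟩
    have hg : Function.Bijective g := by
      constructor
      · intro a b e
        rw [← Quotient.out_eq' a, ← Quotient.out_eq' b]
        exact (hfib _ _).1 (congrArg Subtype.val e)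
      · rintro ⟨_, n, rfl⟩
        exact ⟨QuotientGroup.mk n, Subtype.ext ((hfib _ _).2 (Quotient.out_eq' _))⟩
    rw [← Nat.card_congr (Equiv.ofBijective g hg), ← Subgroup.index_eq_card]
    have h1 := Subgroup.index_mul_card (C.subgroupOf N)
    rw [Nat.card_congr (Subgroup.subgroupOfEquivOfLe (Subgroup.le_normalizer (H := C))).toEquiv, hN] at h1
    exact Nat.eq_of_mul_eq_mul_right Nat.card_pos h1
  · rintro _ ⟨n, rfl⟩
    refine ⟨hsub _ ((Subgroup.mem_normalizer_iff.1 n.2 x).1 (mem_cz_self x)) ?_, isConj_iff.2 ⟨n.1, rfl⟩⟩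
    rw [← ho]
    exact orderOf_injective (MulAut.conj n.1).toMonoidHom (MulAut.conj n.1).injective x

theorem torus_in_stab (hfix : ∀ g : ↥(Cfsg.Sz F m), g ≠ 1 → Nat.card (MulAction.fixedBy Ω g) ≤ 2)
    (α : Ω) (h : Fˣ) (h1 : h ≠ 1) (hh : tHom c h ∈ MulAction.stabilizer ↥(Cfsg.Sz F m) α) :
    ∀ h' : Fˣ, tHom c h' ∈ MulAction.stabilizer ↥(Cfsg.Sz F m) α := by
  classical
  set H := MulAction.stabilizer ↥(Cfsg.Sz F m) α
  set x := tHom c h
  set D := H ⊓ (tHom c).range
  -- the conjugates of `x` inside `H`, at least `|H : D|` many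
  let f : ↥H → ↥(Cfsg.Sz F m) := fun n => n.1 * x * n.1⁻¹
  let g : ↥H ⧸ D.subgroupOf H → Set.range f := fun q => ⟨f q.out, q.out, rfl⟩
  have hg : Function.Injective g := by
    intro a b e
    rw [← Quotient.out_eq' a, ← Quotient.out_eq' b]
    change (QuotientGroup.mk a.out : ↥H ⧸ D.subgroupOf H) = QuotientGroup.mk b.out
    rw [QuotientGroup.eq, Subgroup.mem_subgroupOf]
    refine ⟨(a.out⁻¹ * b.out).2, cz_torus c h1 ?_⟩
    rw [Subgroup.mem_centralizer_singleton_iff]
    have e' : a.out.1 * x * a.out.1⁻¹ = b.out.1 * x * b.out.1⁻¹ := congrArg Subtype.val e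
    simp only [Subgroup.coe_mul, InvMemClass.coe_inv]
    calc a.out.1⁻¹ * b.out.1 * x = a.out.1⁻¹ * (b.out.1 * x * b.out.1⁻¹) * b.out.1 := by group
      _ = a.out.1⁻¹ * (a.out.1 * x * a.out.1⁻¹) * b.out.1 := by rw [e']
      _ = x * (a.out.1⁻¹ * b.out.1) := by group
  have hb := fix_lower x α (Set.range f) (by
    rintro _ ⟨n, rfl⟩
    exact ⟨mul_mem (mul_mem n.2 hh) (inv_mem n.2), isConj_iff.2 ⟨n.1, rfl⟩⟩)
  have hC : Fintype.card F - 1 ≤ Nat.card (Subgroup.centralizer ({x} : Set ↥(Cfsg.Sz F m))) := by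
    rw [← card_T c]
    refine Subgroup.card_le_of_le ?_
    rintro _ ⟨k, rfl⟩
    rw [Subgroup.mem_centralizer_singleton_iff, ← map_mul, ← map_mul, mul_comm]
  have hx1 : x ≠ 1 := fun e => h1 (tHom_injective c (e.trans (map_one _).symm))
  have hidx : Nat.card ↥H = Nat.card (↥H ⧸ D.subgroupOf H) * Nat.card D := by
    rw [← Nat.card_congr (Subgroup.subgroupOfEquivOfLe (inf_le_left : D ≤ H)).toEquiv,
      ← Subgroup.card_eq_card_quotient_mul_card_subgroup]
  have hpos : 0 < Nat.card (↥H ⧸ D.subgroupOf H) := Nat.card_pos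
  have h2 : Fintype.card F - 1 ≤ 2 * Nat.card D := by
    refine Nat.le_of_mul_le_mul_right ?_ hpos
    calc (Fintype.card F - 1) * Nat.card (↥H ⧸ D.subgroupOf H)
        ≤ Nat.card (Subgroup.centralizer ({x} : Set ↥(Cfsg.Sz F m))) * Nat.card (Set.range f) :=
          Nat.mul_le_mul hC (Nat.card_le_card_of_injective g hg)
      _ ≤ Nat.card (MulAction.fixedBy Ω x) * Nat.card ↥H := hb
      _ ≤ 2 * Nat.card ↥H := Nat.mul_le_mul_right _ (hfix x hx1)
      _ = _ := by rw [hidx]; ring
  have hdvd : Nat.card D ∣ Fintype.card F - 1 := card_T c ▸ Subgroup.card_dvd_of_le inf_le_right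
  have hD : Nat.card D = Fintype.card F - 1 := by
    obtain ⟨j, hj⟩ := hdvd
    have h8 := c.eight_le
    obtain ⟨t, ht⟩ := even_card c
    rcases j with _ | _ | _ | j
    · omega
    · omega
    · omega
    · exfalso; nlinarith [Nat.card_pos (α := D)]
  have hle : (tHom c).range ≤ H := by
    have := Subgroup.eq_of_le_of_card_ge (inf_le_right : D ≤ (tHom c).range) (by rw [card_T, hD])
    exact this ▸ inf_le_left
  exact fun h' => hle ⟨h', rfl⟩

omit c in
theorem dvd_of_forall_free_not {H : Subgroup ↥(Cfsg.Sz F m)} (c : Ctx F m)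
    (hodd : ¬ 2 ∣ Nat.card H) (hnf : ∀ g ∈ H, ¬ IsFree g) : Nat.card H ∣ Fintype.card F - 1 := by
  have h := Subgroup.card_subgroup_dvd_card H
  rw [card_sz c, mul_assoc] at h
  have hq : (Nat.card H).Coprime (Fintype.card F ^ 2) := by
    rw [c.hF, ← pow_mul]
    exact Nat.Coprime.pow_right _ ((Nat.Prime.coprime_iff_not_dvd Nat.prime_two).2 hodd).symm
  have hn : (Nat.card H).Coprime (Fintype.card F ^ 2 + 1) := by
    refine Nat.coprime_of_dvd fun p hp h1 h2 => ?_
    haveI : Fact p.Prime := ⟨hp⟩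
    obtain ⟨z, hz⟩ := exists_prime_orderOf_dvd_card' p h1
    rw [← Subgroup.orderOf_coe] at hz
    exact hnf _ z.2 (free_of_prime c hp hz h2)
  exact hn.dvd_of_dvd_mul_left (hq.dvd_of_dvd_mul_left h)

theorem fixity_two [FaithfulSMul ↥(Cfsg.Sz F m) Ω]
    (hfix : ∀ g : ↥(Cfsg.Sz F m), g ≠ 1 → Nat.card (MulAction.fixedBy Ω g) ≤ 2)
    (hex : ∃ g : ↥(Cfsg.Sz F m), g ≠ 1 ∧ Nat.card (MulAction.fixedBy Ω g) = 2) :
    (Nat.card Ω = Fintype.card F ^ 2 + 1 ∧ MulAction.IsMultiplyPretransitive ↥(Cfsg.Sz F m) Ω 2) ∨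
    (Nat.card Ω = Fintype.card F ^ 2 * (Fintype.card F ^ 2 + 1) ∧
      ∀ α : Ω, Nat.card (MulAction.stabilizer ↥(Cfsg.Sz F m) α) = Fintype.card F - 1) := by
  classical
  obtain ⟨g0, hg0, hg0f⟩ := hex
  haveI : Nonempty (MulAction.fixedBy Ω g0) := by
    refine not_isEmpty_iff.1 fun h => ?_
    rw [Nat.card_of_isEmpty] at hg0f
    omega
  obtain ⟨⟨α, hα⟩⟩ := ‹Nonempty (MulAction.fixedBy Ω g0)›
  set H := MulAction.stabilizer ↥(Cfsg.Sz F m) α
  have hcardstab : ∀ β : Ω, Nat.card (MulAction.stabilizer ↥(Cfsg.Sz F m) β) = Nat.card H := by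
    intro β
    obtain ⟨k, rfl⟩ := MulAction.exists_smul_eq ↥(Cfsg.Sz F m) α β
    refine Nat.card_congr ((MulAut.conj k⁻¹).toEquiv.subtypeEquiv fun x => ?_)
    rw [stab_conj]; simp [H]
  have hΩ : Nat.card Ω * Nat.card H = Nat.card ↥(Cfsg.Sz F m) := by
    rw [← MulAction.index_stabilizer_of_transitive (G := ↥(Cfsg.Sz F m)) α]
    exact Subgroup.index_mul_card H
  have hmain : (¬ 2 ∣ Nat.card H ∧ Nat.card H = Fintype.card F - 1) ∨
      ∃ β : Ω, MulAction.stabilizer ↥(Cfsg.Sz F m) β = MulAction.stabilizer ↥(Cfsg.Sz F m) (pt (F := F) m none) := by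
    by_cases h2 : 2 ∣ Nat.card H
    · right
      haveI : Fact (Nat.Prime 2) := ⟨Nat.prime_two⟩
      obtain ⟨z, hz⟩ := exists_prime_orderOf_dvd_card' 2 h2
      rw [← Subgroup.orderOf_coe] at hz
      have hz' : ¬ IsFree (z : ↥(Cfsg.Sz F m)) := fun h => (prime_facts c Nat.prime_two
        (prime_dvd_of_free c Nat.prime_two hz h)).1 rfl
      obtain ⟨k, b, hb, hzk⟩ : ∃ k b, b ≠ 0 ∧ (z : ↥(Cfsg.Sz F m)) = k * uG c 0 b * k⁻¹ := by
        rcases not_free_cases c hz' with ⟨k, u, ⟨a, b, rfl⟩, e⟩ | ⟨k, h, e⟩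
        · have hsq := pow_orderOf_eq_one (z : ↥(Cfsg.Sz F m))
          rw [hz, e, conj_pow, conj_eq_one_iff, pow_two, uG_sq, ← uG_zero c] at hsq
          have ha : a = 0 := by
            rcases mul_eq_zero.1 (uG_inj c hsq).2 with h | h
            · exact h
            · exact (map_eq_zero _).1 h
          subst ha
          refine ⟨k, b, fun hb => ?_, e⟩
          rw [e, hb, uG_zero, mul_one, mul_inv_cancel, orderOf_one] at hz
          omega
        · exfalso
          have hsq := pow_orderOf_eq_one (z : ↥(Cfsg.Sz F m))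
          rw [hz, e, conj_pow, conj_eq_one_iff, ← map_pow, ← map_one (tHom c)] at hsq
          have h1 : h = 1 := Units.ext (sq_eq_one' (by simpa using congrArg Units.val (tHom_injective c hsq)))
          rw [e, h1, map_one, mul_one, mul_inv_cancel, orderOf_one] at hz
          omega
      -- now the stabiliser of `β = k⁻¹ • α` contains the involution `uG 0 b`
      set β := k⁻¹ • α with hβ
      refine ⟨?_, ?_⟩
      · exact β
      set L := MulAction.stabilizer ↥(Cfsg.Sz F m) β with hL
      have hzL : uG c 0 b ∈ L := by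
        rw [hL, hβ, stab_conj, inv_inv, ← hzk]; exact z.2
      set P0 := MulAction.stabilizer ↥(Cfsg.Sz F m) (pt (F := F) m none) with hP0
      set Lb := L ⊓ P0
      -- the involutions of `L` fixing each point of the orbit of infinity
      set E : Set F := {s | s ≠ 0 ∧ uG c 0 s ∈ L}
      have hE : b ∈ E := ⟨hb, hzL⟩
      have hinvol : ∀ s : F, s ≠ 0 → IsConj (uG c 0 b) (uG c 0 s) := by
        intro s hs
        obtain ⟨-, ⟨h, hh⟩, -⟩ := theta_units_surj c (s / b) (div_ne_zero hs hb)
        exact isConj_iff.2 ⟨tHom c h, by rw [tHom_conj_uG, mul_zero, hh, div_mul_cancel₀ _ hb]⟩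
      let g : (↥L ⧸ Lb.subgroupOf L) × E → ↥(Cfsg.Sz F m) := fun p => p.1.out.1 * uG c 0 p.2.1 * p.1.out.1⁻¹
      have hg : Function.Injective g := by
        rintro ⟨a, s⟩ ⟨a', s'⟩ e
        have e' : a.out.1 * uG c 0 s.1 * a.out.1⁻¹ = a'.out.1 * uG c 0 s'.1 * a'.out.1⁻¹ := e
        have haa : a = a' := by
          rw [← Quotient.out_eq' a, ← Quotient.out_eq' a']
          change (QuotientGroup.mk a.out : ↥L ⧸ Lb.subgroupOf L) = QuotientGroup.mk a'.out
          rw [QuotientGroup.eq, Subgroup.mem_subgroupOf]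
          refine ⟨(a.out⁻¹ * a'.out).2, ?_⟩
          simp only [Subgroup.coe_mul, InvMemClass.coe_inv, SetLike.mem_coe, hP0, MulAction.mem_stabilizer_iff]
          by_contra hne
          refine s.2.1 (uG_fix c (a := 0) (b := s.1) ?_ hne).2
          have e2 : uG c 0 s.1 = a.out.1⁻¹ * a'.out.1 * uG c 0 s'.1 * (a.out.1⁻¹ * a'.out.1)⁻¹ := by
            calc uG c 0 s.1 = a.out.1⁻¹ * (a.out.1 * uG c 0 s.1 * a.out.1⁻¹) * a.out.1 := by group
              _ = a.out.1⁻¹ * (a'.out.1 * uG c 0 s'.1 * a'.out.1⁻¹) * a.out.1 := by rw [e']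
              _ = _ := by group
          conv_lhs => rw [e2, mul_smul, mul_smul, inv_smul_smul, uG_smul_inf]
        subst haa
        exact Prod.ext rfl (Subtype.ext (uG_inj c (mul_left_cancel (mul_right_cancel e'))).2)
      have hbd := fix_lower (uG c 0 b) β (Set.range g) (by
        rintro _ ⟨⟨a, s⟩, rfl⟩
        exact ⟨mul_mem (mul_mem a.out.2 s.2.2) (inv_mem a.out.2),
          (hinvol s.1 s.2.1).trans (isConj_iff.2 ⟨a.out.1, rfl⟩)⟩)
      rw [Nat.card_range_of_injective hg, Nat.card_prod] at hbd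
      have hU : uSub c ≤ Subgroup.centralizer ({uG c 0 b} : Set ↥(Cfsg.Sz F m)) := by
        rintro _ ⟨a', b', rfl⟩
        rw [Subgroup.mem_centralizer_singleton_iff, uG_mul, uG_mul, add_zero, zero_add, zero_mul, add_zero,
          map_zero, mul_zero, add_zero, add_comm b b']
      have hu1 : uG c 0 b ≠ 1 := fun e => by rw [← uG_zero c] at e; exact hb (uG_inj c e).2
      have hidx : Nat.card ↥L = Nat.card (↥L ⧸ Lb.subgroupOf L) * Nat.card Lb := by
        rw [← Nat.card_congr (Subgroup.subgroupOfEquivOfLe (inf_le_left : Lb ≤ L)).toEquiv,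
          ← Subgroup.card_eq_card_quotient_mul_card_subgroup]
      have hkey : Fintype.card F ^ 2 * Nat.card E ≤ 2 * Nat.card Lb := by
        refine Nat.le_of_mul_le_mul_right ?_ (Nat.card_pos (α := ↥L ⧸ Lb.subgroupOf L))
        calc Fintype.card F ^ 2 * Nat.card E * Nat.card (↥L ⧸ Lb.subgroupOf L)
            = Fintype.card F ^ 2 * (Nat.card (↥L ⧸ Lb.subgroupOf L) * Nat.card E) := by ring
          _ ≤ Nat.card (Subgroup.centralizer ({uG c 0 b} : Set ↥(Cfsg.Sz F m))) *
                (Nat.card (↥L ⧸ Lb.subgroupOf L) * Nat.card E) := by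
              refine Nat.mul_le_mul_right _ ?_
              rw [← card_uSub c]; exact Subgroup.card_le_of_le hU
          _ ≤ Nat.card (MulAction.fixedBy Ω (uG c 0 b)) * Nat.card ↥L := hbd
          _ ≤ 2 * Nat.card ↥L := Nat.mul_le_mul_right _ (hfix _ hu1)
          _ = _ := by rw [hidx]; ring
      have hEpos : 1 ≤ Nat.card E := by
        haveI : Nonempty E := ⟨⟨b, hE⟩⟩
        exact Nat.card_pos
      have h8 := c.eight_le
      -- a torus element lies in `Lb`
      obtain ⟨u, h, h1, hmem⟩ : ∃ u h, h ≠ 1 ∧ u * tHom c h * u⁻¹ ∈ Lb ∧ u ∈ uSub c := by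
        by_contra hno
        have hsub : Lb ≤ uSub c := by
          intro x hx
          rcases fix_inf_cases c hx.2 with h | ⟨o, ho, hxo⟩
          · exact h
          by_cases hx1 : x = 1
          · rw [hx1]; exact one_mem _
          obtain ⟨o', rfl⟩ := (pt_bij m).2 o
          rcases o' with _ | ⟨a, s⟩
          · exact absurd rfl ho
          exfalso
          obtain ⟨h, hh⟩ := (two_point_iff c ((uG c a s)⁻¹ * x * uG c a s)).1
            ⟨by rw [mul_smul, mul_smul, uG_smul_inf, inv_smul_eq_iff, uG_smul_inf]; exact hx.2,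
              by rw [mul_smul, mul_smul, uG_smul_zero, hxo, inv_smul_eq_iff, uG_smul_zero]⟩
          refine hno ⟨uG c a s, h, fun e => hx1 ?_, ?_, uG_mem_uSub c a s⟩
          · rw [e, map_one] at hh
            calc x = uG c a s * ((uG c a s)⁻¹ * x * uG c a s) * (uG c a s)⁻¹ := by group
              _ = 1 := by rw [hh]; group
          · rw [show uG c a s * tHom c h * (uG c a s)⁻¹ = x by rw [← hh]; group]; exact hx
        have hcard : Fintype.card F ^ 2 ≤ 2 * Nat.card Lb :=
          le_trans (Nat.le_mul_of_pos_right _ hEpos) hkey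
        -- squares give all of the centre
        have hZ : ∀ a : F, ∀ s, uG c a s ∈ uSub c → uG c 0 (a * th F m a) ∈ Lb := by
          intro a s hs
          have hdvd : Nat.card Lb ∣ Fintype.card F ^ 2 := card_uSub c ▸ Subgroup.card_dvd_of_le hsub
          obtain ⟨j, hj⟩ := hdvd
          have hidx2 : (Lb.subgroupOf (uSub c)).index ≤ 2 := by
            have h1 := Subgroup.index_mul_card (Lb.subgroupOf (uSub c))
            rw [Nat.card_congr (Subgroup.subgroupOfEquivOfLe hsub).toEquiv, card_uSub c] at h1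
            nlinarith [Nat.card_pos (α := Lb)]
          have hne : (Lb.subgroupOf (uSub c)).index ≠ 0 := Subgroup.index_ne_zero_of_finite
          rcases Nat.lt_or_ge (Lb.subgroupOf (uSub c)).index 2 with h | h
          · have htop : Lb.subgroupOf (uSub c) = ⊤ := Subgroup.index_eq_one.1 (by omega)
            have := mul_mem hs hs
            rw [uG_sq] at this
            exact (Subgroup.subgroupOf_eq_top.1 htop) this
          · have h2' : (Lb.subgroupOf (uSub c)).index = 2 := le_antisymm hidx2 h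
            have := Subgroup.mul_self_mem_of_index_two h2' (⟨uG c a s, hs⟩ : ↥(uSub c))
            rw [Subgroup.mem_subgroupOf] at this
            simp only [Subgroup.coe_mul, uG_sq] at this
            exact this
        have hEfull : Nat.card E = Fintype.card F - 1 := by
          have : E = {s | s ≠ 0} := by
            ext s
            refine ⟨fun h => h.1, fun hs => ⟨hs, ?_⟩⟩
            obtain ⟨-, -, ⟨a, ha⟩⟩ := theta_units_surj c s hs
            have := hZ a 0 (uG_mem_uSub c _ _)
            rw [ha] at this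
            exact this.1
          rw [this]
          rw [← Nat.card_eq_fintype_card (α := F), show Nat.card ({s | s ≠ 0} : Set F) = Nat.card Fˣ from
            Nat.card_congr unitsEquivNeZero.symm, Nat.card_units]
        have := Nat.le_of_dvd (by positivity) (card_uSub c ▸ Subgroup.card_dvd_of_le hsub)
        rw [hEfull] at hkey
        nlinarith [show 7 ≤ Fintype.card F - 1 by omega]
      obtain ⟨hmem, hu⟩ := hmem
      set γ := u⁻¹ • β with hγ
      have hLγ : ∀ x, x ∈ MulAction.stabilizer ↥(Cfsg.Sz F m) γ ↔ u * x * u⁻¹ ∈ L := fun x => by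
        rw [hγ, stab_conj, inv_inv]
      have hT := torus_in_stab c hfix γ h h1 ((hLγ _).2 hmem.1)
      -- hence all central involutions and then all of the point stabiliser
      have hzall : ∀ s : F, uG c 0 s ∈ L := by
        intro s
        rcases eq_or_ne s 0 with rfl | hs
        · rw [uG_zero]; exact one_mem _
        obtain ⟨-, ⟨h', hh'⟩, -⟩ := theta_units_surj c (s / b) (div_ne_zero hs hb)
        have hm := mul_mem (mul_mem ((hLγ _).1 (hT h')) hzL) (inv_mem ((hLγ _).1 (hT h')))
        have e : u * tHom c h' * u⁻¹ * uG c 0 b * (u * tHom c h' * u⁻¹)⁻¹ = uG c 0 s := by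
          have hc' : ∀ s, u * uG c 0 s * u⁻¹ = uG c 0 s := by
            intro s
            obtain ⟨a', b', rfl⟩ := hu
            rw [mul_inv_eq_iff_eq_mul, uG_mul, uG_mul, add_zero, zero_add, zero_mul, add_zero, map_zero,
              mul_zero, add_zero, add_comm b' s]
          have hb' : u⁻¹ * uG c 0 b * u = uG c 0 b := by
            conv_lhs => rw [← hc' b]
            group
          calc u * tHom c h' * u⁻¹ * uG c 0 b * (u * tHom c h' * u⁻¹)⁻¹
              = u * (tHom c h' * (u⁻¹ * uG c 0 b * u) * (tHom c h')⁻¹) * u⁻¹ := by group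
            _ = _ := by rw [hb', tHom_conj_uG, mul_zero, hh', div_mul_cancel₀ _ hb, hc']
        rwa [e] at hm
      have hEfull : Nat.card E = Fintype.card F - 1 := by
        have : E = {s | s ≠ 0} := by
          ext s
          exact ⟨fun h => h.1, fun hs => ⟨hs, hzall s⟩⟩
        rw [this]
        rw [← Nat.card_eq_fintype_card (α := F), show Nat.card ({s | s ≠ 0} : Set F) = Nat.card Fˣ from
          Nat.card_congr unitsEquivNeZero.symm, Nat.card_units]
      have hbig : ∃ a s, a ≠ 0 ∧ uG c a s ∈ MulAction.stabilizer ↥(Cfsg.Sz F m) γ := by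
        by_contra hno
        -- otherwise `Lb` is small
        have hex : ∀ x : ↥Lb, ∃ p : F × Fˣ, u⁻¹ * x.1 * u = uG c 0 p.1 * tHom c p.2 := by
          intro x
          have hx : x.1 • pt (F := F) m none = pt m none := x.2.2
          have hx' : (u⁻¹ * x.1 * u) • pt (F := F) m none = pt m none := by
            obtain ⟨a', b', rfl⟩ := id hu
            rw [mul_smul, mul_smul, uG_smul_inf, inv_smul_eq_iff, uG_smul_inf]; exact hx
          obtain ⟨a', b', h', hs⟩ := (fix_inf_iff c (u⁻¹ * x.1 * u)).1 hx'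
          have hx2 : u⁻¹ * x.1 * u ∈ MulAction.stabilizer ↥(Cfsg.Sz F m) γ := (hLγ _).2 (by
            rw [show u * (u⁻¹ * x.1 * u) * u⁻¹ = x.1 by group]; exact x.2.1)
          have hmem' := mul_mem hx2 (inv_mem (hT h'))
          rw [hs, mul_inv_cancel_right] at hmem'
          have ha : a' = 0 := by
            by_contra ha
            exact hno ⟨a', b', ha, hmem'⟩
          subst ha
          exact ⟨(b', h'), hs⟩
        choose e hspec using hex
        have hinj : Function.Injective e := by
          intro x y hxy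
          have := (hspec x).trans (hxy ▸ (hspec y).symm)
          exact Subtype.ext (mul_left_cancel (mul_right_cancel this))
        have := Nat.card_le_card_of_injective e hinj
        rw [Nat.card_prod, Nat.card_units, Nat.card_eq_fintype_card (α := F)] at this
        rw [hEfull] at hkey
        have h9 : 0 < Fintype.card F * (Fintype.card F - 1) := Nat.mul_pos (by omega) (by omega)
        nlinarith
      obtain ⟨a, s, ha, has⟩ := hbig
      have hU' := eq_top_of_U_invariant c _ a s ha has hT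
      -- the point stabiliser is contained in `L`
      have hge : P0 ≤ L := by
        intro x hx
        obtain ⟨a', b', rfl⟩ := id hu
        obtain ⟨p, q', h', hh'⟩ := (fix_inf_iff c ((uG c a' b')⁻¹ * x * uG c a' b')).1 (by
          rw [mul_smul, mul_smul, uG_smul_inf, inv_smul_eq_iff, uG_smul_inf]; exact hx)
        have := (hLγ _).1 (mul_mem (hU' p q') (hT h'))
        rw [← hh'] at this
        simpa [mul_assoc] using this
      have hLtop : L ≠ ⊤ := by
        intro htop
        have hsub : ∀ o : Ω, o = β := fun o => by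
          obtain ⟨k, rfl⟩ := MulAction.exists_smul_eq ↥(Cfsg.Sz F m) β o
          exact (htop ▸ Subgroup.mem_top k : k ∈ L)
        haveI := isSimple c
        obtain ⟨x, y, hxy⟩ := exists_pair_ne ↥(Cfsg.Sz F m)
        exact hxy (FaithfulSMul.eq_of_smul_eq_smul fun o => (hsub _).trans (hsub _).symm)
      obtain ⟨P, hP⟩ := exists_sylow c
      have hN : P0 = Subgroup.normalizer ((P : Subgroup ↥(Cfsg.Sz F m)) : Set ↥(Cfsg.Sz F m)) := by
        ext x
        rw [hP, mem_normalizer_uSub_iff, hP0, MulAction.mem_stabilizer_iff]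
      by_contra hne
      exact hLtop ((hN ▸ (borel_maximal c P).1).2 L (lt_of_le_of_ne hge (Ne.symm hne)))
    · left
      refine ⟨h2, ?_⟩
      have hnf : ∀ g ∈ H, ¬ IsFree g := by
        intro g hgH hfree
        obtain ⟨n, p, hp, ho, hd⟩ := exists_free_power c hfree
        have hxf := free_of_prime c hp ho hd
        set x := g ^ n
        have hxH : x ∈ H := Subgroup.pow_mem _ hgH n
        obtain ⟨S, hS4, hS⟩ := free_four_conj c hp ho hxf
        set D := H ⊓ cz x
        -- orbits of the four conjugates are disjoint and large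
        let g' : (↥H ⧸ D.subgroupOf H) × S → ↥(Cfsg.Sz F m) := fun q => q.1.out.1 * q.2.1 * q.1.out.1⁻¹
        have hg' : Function.Injective g' := by
          rintro ⟨a, s⟩ ⟨a', s'⟩ e
          have e' : a.out.1 * s.1 * a.out.1⁻¹ = a'.out.1 * s'.1 * a'.out.1⁻¹ := e
          set w := a.out⁻¹ * a'.out with hw
          have hwH : (w : ↥(Cfsg.Sz F m)) ∈ H := w.2
          have hws : (w : ↥(Cfsg.Sz F m)) * s'.1 * (w : ↥(Cfsg.Sz F m))⁻¹ = s.1 := by
            simp only [hw, Subgroup.coe_mul, InvMemClass.coe_inv]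
            calc a.out.1⁻¹ * a'.out.1 * s'.1 * (a.out.1⁻¹ * a'.out.1)⁻¹
                = a.out.1⁻¹ * (a'.out.1 * s'.1 * a'.out.1⁻¹) * a.out.1 := by group
              _ = a.out.1⁻¹ * (a.out.1 * s.1 * a.out.1⁻¹) * a.out.1 := by rw [e']
              _ = _ := by group
          -- `w` normalises the torus, and being of odd order centralises it
          have hmem : ∀ t : S, t.1 ∈ cz x ∧ t.1 ≠ 1 := fun t => by
            obtain ⟨⟨i, hi⟩, hc⟩ := hS t.1 t.2
            refine ⟨hi ▸ zpow_mem (mem_cz_self x) i, fun e1 => ?_⟩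
            rw [e1] at hc
            exact isFree_ne_one hxf (isConj_one_left.1 hc)
          have hNw : (w : ↥(Cfsg.Sz F m)) ∈ Subgroup.normalizer (cz x : Set ↥(Cfsg.Sz F m)) := by
            have e1 : cz s.1 = cz x := cz_eq_of_mem c hxf (hmem s).1 (hmem s).2
            have e2 : cz s'.1 = cz x := cz_eq_of_mem c hxf (hmem s').1 (hmem s').2
            rw [Subgroup.mem_normalizer_iff]
            intro t
            have e3 := SetLike.ext_iff.1 (cz_conj (w : ↥(Cfsg.Sz F m)) s'.1) ((w : ↥(Cfsg.Sz F m)) * t * (w : ↥(Cfsg.Sz F m))⁻¹)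
            rw [hws, e1, e2, Subgroup.mem_map_equiv, MulAut.conj_symm_apply] at e3
            simp only [mul_assoc, inv_mul_cancel_left, inv_mul_cancel, mul_one] at e3
            simpa [mul_assoc] using e3.symm
          have hwC : (w : ↥(Cfsg.Sz F m)) ∈ cz x := by
            set N := Subgroup.normalizer (cz x : Set ↥(Cfsg.Sz F m))
            obtain ⟨n4, hn4, hNn⟩ := cz_normalizer c hxf
            have hidx : ((cz x).subgroupOf N).index = n4 := by
              have h1 := Subgroup.index_mul_card ((cz x).subgroupOf N)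
              rw [Nat.card_congr (Subgroup.subgroupOfEquivOfLe (Subgroup.le_normalizer (H := cz x))).toEquiv, hNn] at h1
              exact Nat.eq_of_mul_eq_mul_right Nat.card_pos h1
            haveI : ((cz x).subgroupOf N).Normal := Subgroup.normal_in_normalizer
            have hord : orderOf (QuotientGroup.mk (⟨_, hNw⟩ : ↥N) : ↥N ⧸ (cz x).subgroupOf N) = 1 := by
              have d1 : orderOf (QuotientGroup.mk (⟨_, hNw⟩ : ↥N) : ↥N ⧸ (cz x).subgroupOf N) ∣ n4 := by
                rw [← hidx, Subgroup.index_eq_card]; exact orderOf_dvd_natCard _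
              have d2 : orderOf (QuotientGroup.mk (⟨_, hNw⟩ : ↥N) : ↥N ⧸ (cz x).subgroupOf N) ∣ Nat.card H := by
                refine (orderOf_map_dvd (QuotientGroup.mk' _) _).trans ?_
                rw [← Subgroup.orderOf_coe]
                exact (Subgroup.orderOf_coe w).symm ▸ orderOf_dvd_natCard w
              set d := orderOf (QuotientGroup.mk (⟨_, hNw⟩ : ↥N) : ↥N ⧸ (cz x).subgroupOf N)
              have hd0 : 0 < d := orderOf_pos _
              have hn0 : 0 < n4 := by
                rcases Nat.eq_zero_or_pos n4 with h | h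
                · rw [h, zero_mul] at hNn; exact absurd hNn Nat.card_pos.ne'
                · exact h
              have hdle : d ≤ 4 := (Nat.le_of_dvd hn0 d1).trans hn4
              have h3 : d ≠ 3 := fun h => three_not_dvd c (h ▸ d2.trans (Subgroup.card_subgroup_dvd_card H))
              have hd2 : ¬ 2 ∣ d := fun h => h2 (h.trans d2)
              omega
            have := orderOf_eq_one_iff.1 hord
            rw [QuotientGroup.eq_one_iff, Subgroup.mem_subgroupOf] at this
            exact this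
          have hcomm : (w : ↥(Cfsg.Sz F m)) * s'.1 = s'.1 * (w : ↥(Cfsg.Sz F m)) :=
            free_cz_comm c hxf hwC (hmem s').1
          have hss : s = s' := by
            apply Subtype.ext
            rw [← hws, hcomm, mul_inv_cancel_right]
          subst hss
          have haa : a = a' := by
            rw [← Quotient.out_eq' a, ← Quotient.out_eq' a']
            change (QuotientGroup.mk a.out : ↥H ⧸ D.subgroupOf H) = QuotientGroup.mk a'.out
            rw [QuotientGroup.eq, Subgroup.mem_subgroupOf]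
            exact ⟨hwH, hwC⟩
          rw [haa]
        have hbd := fix_lower x α (Set.range g') (by
          rintro _ ⟨⟨a, s⟩, rfl⟩
          obtain ⟨⟨i, hi⟩, hc⟩ := hS s.1 s.2
          exact ⟨mul_mem (mul_mem a.out.2 (hi ▸ zpow_mem hxH i)) (inv_mem a.out.2),
            hc.trans (isConj_iff.2 ⟨a.out.1, rfl⟩)⟩)
        rw [Nat.card_range_of_injective hg', Nat.card_prod, hS4] at hbd
        have hidx : Nat.card ↥H = Nat.card (↥H ⧸ D.subgroupOf H) * Nat.card D := by
          rw [← Nat.card_congr (Subgroup.subgroupOfEquivOfLe (inf_le_left : D ≤ H)).toEquiv,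
            ← Subgroup.card_eq_card_quotient_mul_card_subgroup]
        have hD : Nat.card D ≤ Nat.card (cz x) := Subgroup.card_le_of_le inf_le_right
        have := hfix x (isFree_ne_one hxf)
        have h4 : 4 * Nat.card D * Nat.card (↥H ⧸ D.subgroupOf H) ≤
            2 * Nat.card D * Nat.card (↥H ⧸ D.subgroupOf H) := by
          calc 4 * Nat.card D * Nat.card (↥H ⧸ D.subgroupOf H)
              ≤ Nat.card (cz x) * (Nat.card (↥H ⧸ D.subgroupOf H) * 4) := by nlinarith
            _ ≤ Nat.card (MulAction.fixedBy Ω x) * Nat.card ↥H := hbd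
            _ ≤ 2 * Nat.card ↥H := Nat.mul_le_mul_right _ this
            _ = _ := by rw [hidx]; ring
        have hp1 : 0 < Nat.card D * Nat.card (↥H ⧸ D.subgroupOf H) := Nat.mul_pos Nat.card_pos Nat.card_pos
        nlinarith
      have hdvd := dvd_of_forall_free_not c h2 hnf
      -- a torus element
      have hg0H : g0 ∈ H := hα
      have hnf0 := hnf g0 hg0H
      rcases not_free_cases c hnf0 with ⟨k, u, hu, e⟩ | ⟨k, h, e⟩
      · exfalso
        apply h2
        have h4 : g0 ^ 4 = 1 := by rw [e, conj_pow, four_of_fix_inf c hu, mul_one, mul_inv_cancel]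
        have hd : orderOf g0 ∣ 4 := orderOf_dvd_of_pow_eq_one h4
        have hdH : orderOf g0 ∣ Nat.card H := (Subgroup.orderOf_coe (⟨g0, hg0H⟩ : H)).symm ▸ orderOf_dvd_natCard _
        obtain ⟨j, hj, hje⟩ := (Nat.dvd_prime_pow Nat.prime_two (m := 2)).1 (show orderOf g0 ∣ 2 ^ 2 from hd)
        refine dvd_trans ?_ hdH
        rw [hje]
        refine dvd_pow_self 2 fun h0 => hg0 ?_
        rw [h0, pow_zero] at hje
        exact orderOf_eq_one_iff.1 hje
      · have h1 : h ≠ 1 := fun e1 => hg0 (by rw [e, e1, map_one, mul_one, mul_inv_cancel])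
        have hmem : tHom c h ∈ MulAction.stabilizer ↥(Cfsg.Sz F m) (k⁻¹ • α) := by
          rw [stab_conj, inv_inv, ← e]; exact hg0H
        have hT := torus_in_stab c hfix (k⁻¹ • α) h h1 hmem
        refine Nat.dvd_antisymm hdvd ?_
        rw [← hcardstab (k⁻¹ • α), ← card_T c]
        exact Subgroup.card_dvd_of_le (by rintro _ ⟨h', rfl⟩; exact hT h')
  rcases hmain with ⟨-, hH⟩ | ⟨β, hβ⟩
  · right
    refine ⟨?_, fun β => (hcardstab β).trans hH⟩
    rw [hH, card_sz c] at hΩ
    exact Nat.eq_of_mul_eq_mul_right (by have := c.eight_le; omega) hΩ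
  · left
    haveI := pretrans c
    let φ : Ω → Om F m := fun o => (MulAction.exists_smul_eq ↥(Cfsg.Sz F m) β o).choose • pt m none
    have hφ : ∀ g : ↥(Cfsg.Sz F m), φ (g • β) = g • pt (F := F) m none := by
      intro g
      have h1 := (MulAction.exists_smul_eq ↥(Cfsg.Sz F m) β (g • β)).choose_spec
      have h2 : g⁻¹ * (MulAction.exists_smul_eq ↥(Cfsg.Sz F m) β (g • β)).choose ∈
          MulAction.stabilizer ↥(Cfsg.Sz F m) β := by
        rw [MulAction.mem_stabilizer_iff, mul_smul, h1, inv_smul_smul]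
      rw [hβ, MulAction.mem_stabilizer_iff, mul_smul, inv_smul_eq_iff] at h2
      exact h2
    have hsm : ∀ (g : ↥(Cfsg.Sz F m)) (o : Ω), φ (g • o) = g • φ o := by
      intro g o
      obtain ⟨k, rfl⟩ := MulAction.exists_smul_eq ↥(Cfsg.Sz F m) β o
      rw [← mul_smul, hφ, hφ, mul_smul]
    have hinj : Function.Injective φ := by
      intro o o' h
      obtain ⟨k, rfl⟩ := MulAction.exists_smul_eq ↥(Cfsg.Sz F m) β o
      obtain ⟨k', rfl⟩ := MulAction.exists_smul_eq ↥(Cfsg.Sz F m) β o'
      rw [hφ, hφ, ← inv_smul_eq_iff, ← mul_smul, ← MulAction.mem_stabilizer_iff, ← hβ,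
        MulAction.mem_stabilizer_iff, mul_smul, inv_smul_eq_iff] at h
      exact h
    have hbij : Function.Bijective φ := ⟨hinj, fun p => by
      obtain ⟨g, rfl⟩ := exists_smul_inf c p
      exact ⟨g • β, hφ g⟩⟩
    refine ⟨by rw [Nat.card_congr (Equiv.ofBijective φ hbij), card_Om], ?_⟩
    haveI := two_trans c
    rw [MulAction.is_two_pretransitive_iff]
    intro a b x y hab hxy
    obtain ⟨g1, h1a, h1b⟩ := exists_smul_pair c (x := φ a) (y := φ b) (hinj.ne hab)
    obtain ⟨g2, h2a, h2b⟩ := exists_smul_pair c (x := φ x) (y := φ y) (hinj.ne hxy)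
    refine ⟨g2 * g1⁻¹, hinj ?_, hinj ?_⟩
    · rw [hsm, mul_smul, ← h1a, inv_smul_smul, h2a]
    · rw [hsm, mul_smul, ← h1b, inv_smul_smul, h2b]

end Cfsg.Agent.Lib.Suz
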