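import Cfsg.Agent.Lib.Suz.Partition
import Cfsg.Agent.Lib.Char.Scalar
import Cfsg.Agent.Lib.Char.Orthogonality

/-! Lower bound for the degrees of the nontrivial irreducible characters of the Suzuki groups. -/

set_option autoImplicit false

namespace Cfsg.Agent.Lib.Suz

open Matrix MulAction
open scoped Pointwise ComplexConjugate

universe u

variable {F : Type u} [Field F] [Fintype F] [CharP F 2] {m : ℕ} (c : Ctx F m)

include c

/-- the radical of a nontrivial central character has at most one nonzero element -/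
theorem radical_unique {L : AddSubgroup F} (hL : L ≠ ⊤) {a a' : F} (ha : a ≠ 0) (ha' : a' ≠ 0)
    (h : ∀ t, a * th F m t + t * th F m a ∈ L) (h' : ∀ t, a' * th F m t + t * th F m a' ∈ L) : a = a' := by
  classical
  set θ := th F m with hθ
  have hθa : θ a ≠ 0 := (map_ne_zero θ).2 ha
  have hθa' : θ a' ≠ 0 := (map_ne_zero θ).2 ha'
  let ℓ : F →+ F :=
    { toFun := fun s => θ s + s
      map_zero' := by simp
      map_add' := fun x y => by simp only [map_add]; abel }
  have hker : Nat.card ℓ.ker = 2 := by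
    have h2 : (ℓ.ker : Set F) = {0, 1} := by
      ext s
      simp only [SetLike.mem_coe, AddMonoidHom.mem_ker, Set.mem_insert_iff, Set.mem_singleton_iff]
      constructor
      · intro e
        have e' := eq_neg_of_add_eq_zero_left (show θ s + s = 0 from e)
        rw [CharTwo.neg_eq] at e'
        exact tits_fixed c.tits e'
      · rintro (rfl | rfl) <;> simp [ℓ, add_self0]
    have := Nat.card_coe_set_eq (ℓ.ker : Set F)
    rw [h2] at this
    rw [show Nat.card ℓ.ker = Nat.card (ℓ.ker : Set F) from rfl, Nat.card_coe_set_eq, h2,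
      Set.ncard_pair zero_ne_one]
  set I := ℓ.range with hI
  have hcI : Nat.card I * 2 = Fintype.card F := by
    rw [← hker, ← Nat.card_congr (QuotientAddGroup.quotientKerEquivRange ℓ).toEquiv,
      ← AddSubgroup.card_eq_card_quotient_mul_card_addSubgroup, Nat.card_eq_fintype_card]
  have hcL : 2 * Nat.card L ≤ Fintype.card F := by
    have h1 := AddSubgroup.index_mul_card L
    have h2 : 2 ≤ L.index := by
      have h0 : L.index ≠ 0 := AddSubgroup.index_ne_zero_of_finite
      have h1' : L.index ≠ 1 := fun e => hL (AddSubgroup.index_eq_one.1 e)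
      omega
    rw [← Nat.card_eq_fintype_card, ← h1]
    exact Nat.mul_le_mul_right _ h2
  have key : ∀ b : F, b ≠ 0 → (∀ t, b * θ t + t * θ b ∈ L) → ∀ x, x ∈ L ↔ ∃ i ∈ I, x = b * θ b * i := by
    intro b hb hbL
    let μ : F →+ F :=
      { toFun := fun i => b * θ b * i
        map_zero' := mul_zero _
        map_add' := fun x y => mul_add _ _ _ }
    have hμ : Function.Injective μ := fun x y e =>
      mul_left_cancel₀ (mul_ne_zero hb ((map_ne_zero θ).2 hb)) e
    have hle : I.map μ ≤ L := by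
      rintro _ ⟨_, ⟨s, rfl⟩, rfl⟩
      have := hbL (b * s)
      simp only [map_mul] at this
      change b * θ b * (θ s + s) ∈ L
      convert this using 1
      ring
    have hc : Nat.card (I.map μ) = Nat.card I :=
      (Nat.card_congr (AddSubgroup.equivMapOfInjective I μ hμ).toEquiv).symm
    have heq : I.map μ = L := AddSubgroup.eq_of_le_of_card_ge hle (by omega)
    intro x
    rw [← heq]
    exact ⟨fun ⟨i, hi, e⟩ => ⟨i, hi, e.symm⟩, fun ⟨i, hi, e⟩ => ⟨i, hi, e.symm⟩⟩
  have hα : a * θ a ≠ 0 := mul_ne_zero ha ((map_ne_zero θ).2 ha)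
  set k := a' * θ a' / (a * θ a) with hk
  let K : Subfield F :=
    { carrier := {s | ∀ i ∈ I, s * i ∈ I}
      zero_mem' := fun i _ => by rw [zero_mul]; exact I.zero_mem
      one_mem' := fun i hi => by rwa [one_mul]
      add_mem' := fun {x y} hx hy i hi => by rw [add_mul]; exact I.add_mem (hx i hi) (hy i hi)
      mul_mem' := fun {x y} hx hy i hi => by rw [mul_assoc]; exact hx _ (hy i hi)
      neg_mem' := fun {x} hx i hi => by rw [neg_mul]; exact I.neg_mem (hx i hi)
      inv_mem' := fun x hx => by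
        rcases eq_or_ne x 0 with rfl | hx0
        · intro i _; rw [_root_.inv_zero, zero_mul]; exact I.zero_mem
        have hp : ∀ n : ℕ, ∀ i ∈ I, x ^ n * i ∈ I := by
          intro n
          induction n with
          | zero => intro i hi; rwa [pow_zero, one_mul]
          | succ n ih => intro i hi; rw [pow_succ, mul_assoc]; exact ih _ (hx i hi)
        have e : x⁻¹ = x ^ (Fintype.card F - 2) := by
          apply inv_eq_of_mul_eq_one_right
          rw [← pow_succ', show Fintype.card F - 2 + 1 = Fintype.card F - 1 by have := c.eight_le; omega]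
          exact FiniteField.pow_card_sub_one_eq_one x hx0
        rw [e]
        exact hp _ }
  have hkK : k ∈ K := by
    intro i hi
    obtain ⟨i', hi', e⟩ := (key a ha h _).1 ((key a' ha' h' _).2 ⟨i, hi, rfl⟩)
    have : k * i = i' := by rw [hk]; field_simp; linear_combination e
    rw [this]; exact hi'
  let IS : Submodule K F :=
    { carrier := I
      zero_mem' := I.zero_mem
      add_mem' := fun hx hy => I.add_mem hx hy
      smul_mem' := fun s x hx => s.2 x hx }
  have e1 := Module.natCard_eq_pow_finrank (K := K) (V := IS)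
  have e2 := Module.natCard_eq_pow_finrank (K := K) (V := F)
  have hIS : Nat.card IS = 2 ^ (2 * m) := by
    have : Nat.card IS = Nat.card I := rfl
    rw [this]
    rw [c.hF, pow_succ] at hcI
    exact Nat.eq_of_mul_eq_mul_right two_pos hcI
  rw [hIS] at e1
  rw [Nat.card_eq_fintype_card, c.hF] at e2
  have hK2 : Nat.card K = 2 := by
    have hdvd : Nat.card K ∣ 2 ^ (2 * m + 1) := by
      rw [e2]
      refine dvd_pow_self _ fun h0 => ?_
      rw [h0, pow_zero] at e2
      have := Nat.one_lt_two_pow (n := 2 * m + 1) (by omega)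
      omega
    obtain ⟨e, -, he⟩ := (Nat.dvd_prime_pow Nat.prime_two).1 hdvd
    rw [he, ← pow_mul] at e1 e2
    have d1 : e ∣ 2 * m := ⟨_, Nat.pow_right_injective le_rfl e1⟩
    have d2 : e ∣ 2 * m + 1 := ⟨_, Nat.pow_right_injective le_rfl e2⟩
    have : e = 1 := Nat.dvd_one.1 ((Nat.dvd_add_right d1).1 d2)
    rw [he, this, pow_one]
  have hk0 : k ≠ 0 := div_ne_zero (mul_ne_zero ha' ((map_ne_zero θ).2 ha')) hα
  have hk1 : k = 1 := by
    by_contra hne
    have h3 : Function.Injective (![⟨0, K.zero_mem⟩, ⟨1, K.one_mem⟩, ⟨k, hkK⟩] : Fin 3 → K) := by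
      intro i j e
      have e' := congrArg (fun z : K => (z : F)) e
      fin_cases i <;> fin_cases j <;> simp [hk0, hne, Ne.symm hk0, Ne.symm hne] at e' ⊢
    have := Nat.card_le_card_of_injective _ h3
    rw [hK2, Nat.card_fin] at this
    omega
  have e3 : a' * θ a' = a * θ a := by
    rw [hk, div_eq_one_iff_eq hα] at hk1; exact hk1
  have := tits_mul_self c.tits (x := a' / a) (by
    rw [← hθ, map_div₀]
    field_simp
    linear_combination e3)
  rw [div_eq_one_iff_eq ha] at this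
  exact this.symm

/-- an irreducible character of `U` nontrivial on the centre has degree at least `2 ^ m` -/
theorem degree_uSub [Fintype ↥(uSub c)] {ϑ : ↥(uSub c) → ℂ} (hϑ : IsIrrCharacter ↥(uSub c) ϑ) {b : F}
    (hb : ϑ ⟨uG c 0 b, uG_mem_uSub c 0 b⟩ ≠ ϑ 1) : ∃ d : ℕ, ϑ 1 = d ∧ 2 ^ m ≤ d := by
  classical
  obtain ⟨d, hd⟩ := Char.exists_natDegree (Char.isCharacter_of_isIrr hϑ)
  refine ⟨d, hd, ?_⟩
  have hchar := Char.isCharacter_of_isIrr hϑ
  have h10 := Char.irr_degree_ne_zero hϑ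
  let Z : F → ↥(uSub c) := fun s => ⟨uG c 0 s, uG_mem_uSub c 0 s⟩
  have hZc : ∀ s, Z s ∈ Subgroup.center ↥(uSub c) := fun s => (center_uSub c _).2 ⟨s, rfl⟩
  have hmul : ∀ s g, ϑ (Z s * g) * ϑ 1 = ϑ (Z s) * ϑ g := fun s g =>
    (Char.apply_mul_of_norm_eq hchar (Char.norm_char_of_mem_center hϑ (hZc s)) g).1
  have hZadd : ∀ s t, Z (s + t) = Z s * Z t := fun s t => Subtype.ext (by
    simp [Z, uG_mul])
  let L : AddSubgroup F :=
    { carrier := {s | ϑ (Z s) = ϑ 1}
      zero_mem' := by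
        change ϑ (Z 0) = ϑ 1
        congr 1
        exact Subtype.ext (uG_zero c)
      add_mem' := fun {s t} hs ht => by
        change ϑ (Z (s + t)) = ϑ 1
        have := hmul s (Z t)
        rw [hs, ht] at this
        rw [hZadd]
        exact mul_right_cancel₀ h10 this
      neg_mem' := fun {s} hs => by change ϑ (Z (-s)) = ϑ 1; rwa [CharTwo.neg_eq] }
  have hL : L ≠ ⊤ := fun e => hb (show b ∈ L from e ▸ AddSubgroup.mem_top b)
  -- vanishing off the radical
  have hvan : ∀ a s, ϑ ⟨uG c a s, uG_mem_uSub c a s⟩ ≠ 0 → ∀ t, a * th F m t + t * th F m a ∈ L := by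
    intro a s hne t
    set g : ↥(uSub c) := ⟨uG c a s, uG_mem_uSub c a s⟩
    set x : ↥(uSub c) := ⟨uG c t 0, uG_mem_uSub c t 0⟩
    have e : x * g * x⁻¹ = Z (a * th F m t + t * th F m a) * g := by
      apply Subtype.ext
      simp only [Subgroup.coe_mul, InvMemClass.coe_inv, x, g, Z, uG_inv, uG_mul]
      congr 1
      · grind
      · simp only [map_add, map_zero]; grind
    have h1 := hmul (a * th F m t + t * th F m a) g
    rw [← e, (Char.isClassFunction_of_isIrr hϑ) g x, mul_comm] at h1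
    exact (mul_right_cancel₀ hne h1).symm
  -- the sum of squares of absolute values
  have horth := Char.classInner_irr_self hϑ
  rw [classInner, inv_mul_eq_one₀ (Char.card_ne_zero_complex _)] at horth
  let e : F × F → ↥(uSub c) := fun p => ⟨uG c p.1 p.2, uG_mem_uSub c _ _⟩
  have he : Function.Bijective e := by
    constructor
    · rintro ⟨a, s⟩ ⟨a', s'⟩ h
      obtain ⟨rfl, rfl⟩ := uG_inj c (congrArg Subtype.val h)
      rfl
    · rintro ⟨g, a, s, rfl⟩; exact ⟨(a, s), rfl⟩
  let R : Finset F := Finset.univ.filter fun a => ∀ t, a * th F m t + t * th F m a ∈ L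
  have hR : R.card ≤ 2 := by
    have h1 : (R.erase 0).card ≤ 1 := Finset.card_le_one.2 fun a ha a' ha' => by
      simp only [Finset.mem_erase, R, Finset.mem_filter, Finset.mem_univ, true_and] at ha ha'
      exact radical_unique c hL ha.1 ha'.1 ha.2 ha'.2
    have := Finset.pred_card_le_card_erase (a := (0 : F)) (s := R)
    omega
  have hbound : (Nat.card ↥(uSub c) : ℝ) ≤ ((R ×ˢ (Finset.univ : Finset F)).card : ℝ) * (d : ℝ) ^ 2 := by
    have hre : (Nat.card ↥(uSub c) : ℝ) = ∑ g : ↥(uSub c), ‖ϑ g‖ ^ 2 := by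
      have : ((Nat.card ↥(uSub c) : ℝ) : ℂ) = ((∑ g : ↥(uSub c), ‖ϑ g‖ ^ 2 : ℝ) : ℂ) := by
        push_cast
        rw [horth]
        exact Finset.sum_congr rfl fun g _ => Complex.mul_conj' (ϑ g)
      exact_mod_cast this
    rw [hre, ← (Equiv.ofBijective e he).sum_comp (fun g => ‖ϑ g‖ ^ 2)]
    change ∑ p, ‖ϑ (e p)‖ ^ 2 ≤ _
    rw [← Finset.sum_subset (Finset.subset_univ (R ×ˢ (Finset.univ : Finset F))) ?_]
    · refine (Finset.sum_le_card_nsmul _ _ ((d : ℝ) ^ 2) fun p _ => ?_).trans (le_of_eq (nsmul_eq_mul _ _))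
      gcongr
      refine (Char.norm_apply_le hchar _).trans (le_of_eq ?_)
      rw [hd, Complex.norm_natCast]
    · rintro ⟨a, s⟩ - hns
      by_contra hne
      apply hns
      simp only [Finset.mem_product, Finset.mem_univ, and_true, R, Finset.mem_filter, true_and]
      exact hvan a s fun h0 => hne (by simp [e, h0])
  rw [card_uSub c, Finset.card_product, Finset.card_univ] at hbound
  have hb' : Fintype.card F ^ 2 ≤ R.card * Fintype.card F * d ^ 2 := by exact_mod_cast hbound
  have h2 : Fintype.card F ≤ 2 * d ^ 2 := by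
    refine Nat.le_of_mul_le_mul_left ?_ (Fintype.card_pos (α := F))
    calc Fintype.card F * Fintype.card F = Fintype.card F ^ 2 := (sq _).symm
      _ ≤ R.card * Fintype.card F * d ^ 2 := hb'
      _ ≤ 2 * Fintype.card F * d ^ 2 := by gcongr
      _ = _ := by ring
  rw [c.hF, pow_succ', pow_mul'] at h2
  exact Nat.pow_le_pow_iff_left (two_ne_zero' ℕ) |>.1 (Nat.le_of_mul_le_mul_left h2 two_pos)

theorem min_degree {χ : ↥(Cfsg.Sz F m) → ℂ} (hχ : IsIrrCharacter ↥(Cfsg.Sz F m) χ) {k : ℕ}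
    (hk : χ 1 = k) (h2 : 2 ≤ k) : 2 ^ m * (2 ^ (2 * m + 1) - 1) ≤ k := by
  classical
  haveI : Fintype ↥(Cfsg.Sz F m) := Fintype.ofFinite _
  haveI : Fintype ↥(uSub c) := Fintype.ofFinite _
  have hχc := Char.isCharacter_of_isIrr hχ
  set χU : ↥(uSub c) → ℂ := fun u => χ u.1
  have hχU : IsCharacter ↥(uSub c) χU := Char.isCharacter_comp hχc (uSub c).subtype
  obtain ⟨n, hn⟩ := Char.isCharacter_eq_sum hχU
  have hcoef : ∀ ϑ : IrrCharacter ↥(uSub c), classInner χU ϑ.1 = n ϑ := by
    intro ϑ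
    rw [hn, Char.classInner_sum_left]
    simp [Char.classInner_smul_left, Char.classInner_irrCharacter]
  obtain ⟨ϑ0, hn0, b, hb⟩ : ∃ ϑ : IrrCharacter ↥(uSub c), n ϑ ≠ 0 ∧
      ∃ b : F, ϑ.1 ⟨uG c 0 b, uG_mem_uSub c 0 b⟩ ≠ ϑ.1 1 := by
    by_contra hno
    push_neg at hno
    have hz : χU ⟨uG c 0 1, uG_mem_uSub c 0 1⟩ = χU 1 := by
      rw [hn]
      simp only [Finset.sum_apply, Pi.smul_apply]
      refine Finset.sum_congr rfl fun ϑ _ => ?_
      by_cases h : n ϑ = 0
      · simp [h]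
      · rw [hno ϑ h 1]
    haveI := isSimple c
    have htop : Char.charKer χ = ⊤ := by
      refine ((Char.charKer_normal hχc).eq_bot_or_eq_top).resolve_left fun hbot => ?_
      have h1 : uG c 0 1 ∈ Char.charKer χ := (Char.mem_charKer hχc).2 hz
      rw [hbot, Subgroup.mem_bot, ← uG_zero c] at h1
      exact one_ne_zero (uG_inj c h1).2
    have hall : ∀ g, χ g = (k : ℂ) := fun g =>
      hk ▸ (Char.mem_charKer hχc).1 (htop ▸ Subgroup.mem_top g)
    have h1 := Char.classInner_irr_self hχ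
    simp only [classInner, hall, Complex.conj_natCast, Finset.sum_const, Finset.card_univ,
      nsmul_eq_mul, ← Nat.card_eq_fintype_card] at h1
    rw [inv_mul_cancel_left₀ (Char.card_ne_zero_complex _)] at h1
    have : k * k = 1 := by exact_mod_cast h1
    nlinarith
  obtain ⟨d, hd, hd2⟩ := degree_uSub c ϑ0.2 hb
  -- conjugation by the torus
  have hmem : ∀ (h : Fˣ) (u : ↥(uSub c)), tHom c h * u.1 * (tHom c h)⁻¹ ∈ uSub c := by
    rintro h ⟨_, a, s, rfl⟩
    rw [tHom_conj_uG]; exact uG_mem_uSub c _ _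
  let φ : Fˣ → ↥(uSub c) →* ↥(uSub c) := fun h =>
    { toFun := fun u => ⟨tHom c h * u.1 * (tHom c h)⁻¹, hmem h u⟩
      map_one' := Subtype.ext (by simp)
      map_mul' := fun u v => Subtype.ext (by simp [mul_assoc]) }
  have hφinj : ∀ h, Function.Injective (φ h) := fun h u v e =>
    Subtype.ext (mul_left_cancel (mul_right_cancel (congrArg Subtype.val e)))
  have hφ : ∀ h, Function.Bijective (φ h) := fun h =>
    ⟨hφinj h, Finite.injective_iff_surjective.1 (hφinj h)⟩
  let tw : Fˣ → IrrCharacter ↥(uSub c) := fun h =>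
    ⟨ϑ0.1 ∘ φ h, Char.isIrrCharacter_comp ϑ0.2 _ (hφ h).2⟩
  have hntw : ∀ h, n (tw h) = n ϑ0 := by
    intro h
    have : classInner χU (tw h).1 = classInner χU ϑ0.1 := by
      simp only [classInner]
      congr 1
      refine Fintype.sum_bijective _ (hφ h) _ _ fun u => ?_
      congr 1
      exact ((Char.isClassFunction_of_isCharacter hχc) u.1 (tHom c h)).symm
    rw [hcoef, hcoef] at this
    exact_mod_cast this
  have hϑc := Char.isCharacter_of_isIrr ϑ0.2
  have h10 := Char.irr_degree_ne_zero ϑ0.2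
  let L : F → Prop := fun s => ϑ0.1 ⟨uG c 0 s, uG_mem_uSub c 0 s⟩ = ϑ0.1 1
  have hLmul : ∀ s t, ϑ0.1 ⟨uG c 0 (s + t), uG_mem_uSub c 0 _⟩ * ϑ0.1 1 =
      ϑ0.1 ⟨uG c 0 s, uG_mem_uSub c 0 s⟩ * ϑ0.1 ⟨uG c 0 t, uG_mem_uSub c 0 t⟩ := by
    intro s t
    have h1 := (Char.apply_mul_of_norm_eq hϑc (Char.norm_char_of_mem_center ϑ0.2
      ((center_uSub c ⟨uG c 0 s, uG_mem_uSub c 0 s⟩).2 ⟨s, rfl⟩)) ⟨uG c 0 t, uG_mem_uSub c 0 t⟩).1
    rw [← h1]
    refine congrArg (· * _) (congrArg _ (Subtype.ext ?_))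
    simp [uG_mul]
  have htwinj : Function.Injective tw := by
    intro h h' e
    by_contra hne
    have hne' : ((h : F) ^ 2 * th F m h) + ((h' : F) ^ 2 * th F m h') ≠ 0 := by
      intro e0
      have e1 := eq_neg_of_add_eq_zero_left e0
      rw [CharTwo.neg_eq] at e1
      apply hne
      have hd0 : ((h' : F) ^ 2 * th F m h') ≠ 0 := mul_ne_zero (pow_ne_zero _ h'.ne_zero) ((map_ne_zero _).2 h'.ne_zero)
      have := tits_sq_mul c.tits (x := (h : F) / h') (by
        rw [div_pow, map_div₀, div_mul_div_comm, e1, div_self hd0])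
      rw [div_eq_one_iff_eq h'.ne_zero] at this
      exact Units.ext this
    set s := b / (((h : F) ^ 2 * th F m h) + ((h' : F) ^ 2 * th F m h'))
    have hval : ∀ g : Fˣ, (tw g).1 ⟨uG c 0 s, uG_mem_uSub c 0 s⟩ =
        ϑ0.1 ⟨uG c 0 ((g : F) ^ 2 * th F m g * s), uG_mem_uSub c 0 _⟩ := by
      intro g
      change ϑ0.1 _ = _
      refine congrArg _ (Subtype.ext ?_)
      simp [φ, tHom_conj_uG]
    have hs := congrArg (fun z : IrrCharacter ↥(uSub c) => z.1 ⟨uG c 0 s, uG_mem_uSub c 0 s⟩) e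
    simp only [hval] at hs
    apply hb
    have hsum : (h : F) ^ 2 * th F m h * s + (h' : F) ^ 2 * th F m h' * s = b := by
      rw [← add_mul, mul_div_cancel₀ _ hne']
    have h3 := hLmul ((h : F) ^ 2 * th F m h * s) ((h' : F) ^ 2 * th F m h' * s)
    rw [hs, ← hLmul] at h3
    have h4 := mul_right_cancel₀ h10 h3
    rw [show (⟨uG c 0 ((h' : F) ^ 2 * th F m h' * s + (h' : F) ^ 2 * th F m h' * s), uG_mem_uSub c 0 _⟩ :
      ↥(uSub c)) = 1 from Subtype.ext (by simp [add_self0, uG_zero])] at h4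
    rw [← h4]
    refine congrArg _ (Subtype.ext ?_)
    simp [hsum]
  -- count
  have hdeg : ∀ ϑ : IrrCharacter ↥(uSub c), ∃ e : ℕ, ϑ.1 1 = e := fun ϑ =>
    Char.exists_natDegree (Char.isCharacter_of_isIrr ϑ.2)
  choose D hD using hdeg
  have hsum : (k : ℂ) = ((∑ ϑ, n ϑ * D ϑ : ℕ) : ℂ) := by
    rw [← hk, show χ 1 = χU 1 from rfl, hn]
    simp only [Finset.sum_apply, Pi.smul_apply, smul_eq_mul, hD]
    push_cast
    rfl
  have hk' : k = ∑ ϑ, n ϑ * D ϑ := by exact_mod_cast hsum
  rw [hk']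
  calc 2 ^ m * (2 ^ (2 * m + 1) - 1) = ∑ _h : Fˣ, 2 ^ m := by
        rw [Finset.sum_const, Finset.card_univ, Fintype.card_units, c.hF, smul_eq_mul, mul_comm]
    _ ≤ ∑ h : Fˣ, n (tw h) * D (tw h) := Finset.sum_le_sum fun h _ => by
        have hDh : D (tw h) = d := by
          have h1 : (tw h).1 1 = ϑ0.1 1 := by change ϑ0.1 (φ h 1) = _; rw [map_one]
          rw [hD, hd] at h1
          exact_mod_cast h1
        rw [hDh]
        exact le_trans hd2 (Nat.le_mul_of_pos_left _ (by rw [hntw]; omega))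
    _ = ∑ ϑ ∈ Finset.univ.image tw, n ϑ * D ϑ := by
        rw [Finset.sum_image fun x _ y _ e => htwinj e]
    _ ≤ _ := Finset.sum_le_univ_sum_of_nonneg (fun _ => Nat.zero_le _)

end Cfsg.Agent.Lib.Suz
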